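import Cfsg.Agent.Lib.CIT.CN
import Cfsg.Agent.Lib.Local.CNTheorem
import Cfsg.Agent.Lib.Core.Cores

/-!
Non-solvable CN groups: the solvable normal subgroups are two-groups.
-/

set_option autoImplicit false
set_option linter.style.haveILetI false
set_option linter.unusedSectionVars false

namespace Cfsg.Lib.CIT.CNStruct

open Subgroup
open Cfsg.Lib

universe u

variable {G : Type u} [Group G] [Finite G]

/-- An element of two-power order and one of odd order have coprime orders. -/
theorem coprime_two_odd {a b : G} (ha : ∃ k : ℕ, a ^ 2 ^ k = 1) (hb : Odd (orderOf b)) :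
    (orderOf a).Coprime (orderOf b) := by
  obtain ⟨k, hk⟩ := ha
  exact Nat.Coprime.coprime_dvd_left (orderOf_dvd_of_pow_eq_one hk)
    ((Nat.coprime_two_left.2 hb).pow_left k)

theorem exists_pow_two {S : Subgroup G} (hS : IsPGroup 2 S) {a : G} (ha : a ∈ S) :
    ∃ k : ℕ, a ^ 2 ^ k = 1 := by
  obtain ⟨k, hk⟩ := hS ⟨a, ha⟩
  exact ⟨k, congrArg Subtype.val hk⟩

theorem odd_order_of_isPGroup {p : ℕ} (hp : p.Prime) (hp2 : p ≠ 2) {P : Subgroup G} (hP : IsPGroup p P)
    {x : G} (hx : x ∈ P) : Odd (orderOf x) := by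
  haveI := Fact.mk hp
  obtain ⟨i, hi⟩ := IsPGroup.iff_orderOf.1 hP ⟨x, hx⟩
  rw [orderOf_mk] at hi
  rw [hi]
  exact (hp.odd_of_ne_two hp2).pow

/-- Elements of two-power order and of odd order in the centralizer of a non-identity element commute. -/
theorem commute_two_odd (hG : Cfsg.IsCNGroup G) {g a b : G} (hg : g ≠ 1) (ha : Commute a g)
    (hb : Commute b g) (hk : ∃ k : ℕ, a ^ 2 ^ k = 1) (hbo : Odd (orderOf b)) : Commute a b :=
  CNStep.commute_of_coprime_cent hG hg ha hb (coprime_two_odd hk hbo)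

theorem not_solvable_quotient (hns : ¬ Group.IsSolvable G) (C : Subgroup G) [C.Normal]
    (hC : Group.IsSolvable C) : ¬ Group.IsSolvable (G ⧸ C) := fun h =>
  hns ((Group.isSolvable_iff_subgroup_quotient C).2 ⟨hC, h⟩)

theorem quotient_isCN (hG : Cfsg.IsCNGroup G) (C : Subgroup G) [C.Normal] (hC : Group.IsSolvable C) :
    Cfsg.IsCNGroup (G ⧸ C) :=
  Local.CN.isCN_quotient_solvable _ G rfl hG C hC

theorem even_index (hG : Cfsg.IsCNGroup G) (hns : ¬ Group.IsSolvable G) (C : Subgroup G) [C.Normal]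
    (hC : Group.IsSolvable C) : 2 ∣ C.index := by
  by_contra h
  refine not_solvable_quotient hns C hC (Local.CN.isSolvable_of_odd ?_ (quotient_isCN hG C hC))
  rw [← Subgroup.index_eq_card]
  exact Nat.odd_iff.2 (Nat.two_dvd_ne_zero.1 h)

theorem centralizer_nilpotent (hG : Cfsg.IsCNGroup G) {A : Subgroup G} (hA : A ≠ ⊥) :
    Group.IsNilpotent (centralizer (A : Set G)) := by
  obtain ⟨a, ha, ha1⟩ := (bot_or_exists_ne_one A).resolve_left hA
  exact Core.isNilpotent_of_le (centralizer_le (Set.singleton_subset_iff.2 ha)) (hG a ha1)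

theorem isSolvable_of_isNilpotent {H : Subgroup G} (h : Group.IsNilpotent H) : Group.IsSolvable H := by
  haveI := h
  infer_instance

/-- A non-solvable CN group has no nontrivial normal subgroup of odd prime power order. -/
theorem no_odd_normal (hG : Cfsg.IsCNGroup G) (hns : ¬ Group.IsSolvable G) {p : ℕ} (hp : p.Prime)
    (hp2 : p ≠ 2) (P : Subgroup G) [P.Normal] (hP : IsPGroup p P) : P = ⊥ := by
  by_contra hP1
  haveI : Fact (Nat.Prime 2) := ⟨Nat.prime_two⟩
  haveI := Fact.mk hp
  haveI : Nontrivial P := (nontrivial_iff_ne_bot P).2 hP1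
  haveI := hP.center_nontrivial
  set Z := (center P).map P.subtype with hZ
  haveI : Z.Normal := Core.normal_map_char_of_normal _
  have hZ1 : Z ≠ ⊥ := fun e => by
    rw [hZ, Subgroup.map_eq_bot_iff_of_injective _ P.subtype_injective] at e
    exact (nontrivial_iff_ne_bot _).1 inferInstance e
  have hZP : Z ≤ P := map_subtype_le _
  set C := centralizer (Z : Set G) with hC
  haveI hCn : C.Normal := inferInstance
  have hCnil : Group.IsNilpotent C := centralizer_nilpotent hG hZ1
  have hCsolv := isSolvable_of_isNilpotent hCnil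
  have heven := even_index hG hns C hCsolv
  have hPC : ∀ x ∈ P, ∀ z ∈ Z, Commute x z := by
    rintro x hx _ ⟨z, hz, rfl⟩
    exact congrArg Subtype.val (mem_center_iff.1 hz ⟨x, hx⟩)
  have hodd : ∀ x ∈ P, Odd (orderOf x) := fun x hx => odd_order_of_isPGroup hp hp2 hP hx
  by_cases hQ : Cfsg.pCore 2 G = ⊥
  · -- the centralizer has odd order
    have hCodd : ∀ a ∈ C, (∃ k : ℕ, a ^ 2 ^ k = 1) → a = 1 := by
      rintro a ha ⟨k, hk⟩
      haveI := hCnil
      obtain ⟨S, hS⟩ := (IsPGroup.of_card (n := (orderOf a).factorization 2) (by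
        rw [Nat.card_zpowers, orderOf_mk]
        obtain ⟨j, -, hj⟩ := (Nat.dvd_prime_pow Nat.prime_two).1 (orderOf_dvd_of_pow_eq_one hk)
        rw [hj, Nat.Prime.factorization_pow Nat.prime_two, Finsupp.single_eq_same]) :
        IsPGroup 2 (zpowers (⟨a, ha⟩ : C))).exists_le_sylow
      haveI hSn : (S : Subgroup C).Normal :=
        ((Group.isNilpotent_of_finite_tfae (G := C)).out 0 3 rfl rfl).mp hCnil 2 inferInstance S
      haveI hSc : (S : Subgroup C).Characteristic := Sylow.characteristic_of_normal S hSn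
      have h1 : (S : Subgroup C).map C.subtype ≤ ⊥ :=
        hQ ▸ Core.le_pCore' (Core.normal_map_char_of_normal _) (S.2.map _)
      exact mem_bot.1 (h1 ⟨_, hS (mem_zpowers _), rfl⟩)
    obtain ⟨u, hu⟩ := exists_prime_orderOf_dvd_card' (G := G) 2
      (heven.trans (index_dvd_card C))
    have hinv : ∀ w : G, orderOf w = 2 → ∀ z ∈ Z, w * z * w⁻¹ = z⁻¹ := by
      intro w hw z hz
      have hwk : ∃ k : ℕ, w ^ 2 ^ k = 1 := ⟨1, by rw [pow_one, ← hw, pow_orderOf_eq_one]⟩
      set y := z * (w * z * w⁻¹) with hy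
      have hwz : w * z * w⁻¹ ∈ Z := (inferInstance : Z.Normal).conj_mem z hz w
      have hyZ : y ∈ Z := mul_mem hz hwz
      have hc : Commute y w := by
        have h1 : Commute z (w * z * w⁻¹) := hPC z (hZP hz) _ hwz
        show y * w = w * y
        rw [hy]
        calc z * (w * z * w⁻¹) * w = (w * z * w⁻¹) * z * w := by rw [h1.eq]
          _ = w * z * (w⁻¹ * z * w) := by group
          _ = w * (z * (w * z * w⁻¹)) := by rw [inv_eq_self_of_two hw]; group
      by_contra hne
      have hy1 : y ≠ 1 := fun e => hne (eq_inv_of_mul_eq_one_right e)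
      refine Invol.ne_one hw (hCodd w (mem_centralizer_iff.2 fun z' hz' => ?_) hwk)
      exact (commute_two_odd hG hy1 hc.symm (hPC z' (hZP hz') y hyZ) hwk (hodd z' (hZP hz'))).symm.eq
    have hcu : ∀ c ∈ C, orderOf (c * u) = 2 → u * c * u⁻¹ = c⁻¹ := by
      intro c _ h
      have h1 : c * u * (c * u) = 1 := by rw [← pow_two, ← h, pow_orderOf_eq_one]
      rw [inv_eq_self_of_two hu]
      calc u * c * u = c⁻¹ * (c * u * (c * u)) := by group
        _ = c⁻¹ := by rw [h1, mul_one]
    -- every conjugate of `u` is conjugate to it under the centralizer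
    have hfrat : ∀ g : G, ∃ d ∈ C, d⁻¹ * g ∈ centralizer ({u} : Set G) := by
      intro g
      set v := g * u * g⁻¹ with hv
      have hv2 : orderOf v = 2 := by rw [hv, Invol.orderOf_conj_eq, hu]
      have hc : v * u ∈ C := mem_centralizer_iff.2 fun z hz => by
        have h1 := hinv u hu z hz
        have h2 := hinv v hv2 (u * z * u⁻¹) ((inferInstance : Z.Normal).conj_mem z hz u)
        rw [h1, inv_inv] at h2
        have h3 : v * u * z * (v * u)⁻¹ = z := by
          calc v * u * z * (v * u)⁻¹ = v * (u * z * u⁻¹) * v⁻¹ := by group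
            _ = z := by rw [h1]; exact h2
        exact (mul_inv_eq_iff_eq_mul.1 h3).symm
      obtain ⟨c, hcdef⟩ : ∃ c, c = v * u := ⟨_, rfl⟩
      rw [← hcdef] at hc
      have hvc : v = c * u := by rw [hcdef, mul_assoc, ← pow_two, ← hu, pow_orderOf_eq_one, mul_one]
      have huc : u * c * u⁻¹ = c⁻¹ := hcu c hc (by rw [← hvc, hv2])
      have hco : Odd (orderOf c) := by
        by_contra hev
        rw [Nat.not_odd_iff_even, even_iff_two_dvd] at hev
        have ho : orderOf (c ^ (orderOf c / 2)) = 2 := orderOf_pow_orderOf_div (orderOf_pos c).ne' hev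
        exact Invol.ne_one ho (hCodd _ (pow_mem hc _) ⟨1, by
          have := pow_orderOf_eq_one (c ^ (orderOf c / 2)); rwa [ho, ← pow_one 2] at this⟩)
      obtain ⟨r, hr⟩ := hco
      set d := c ^ (r + 1) with hd
      have hdd : d * d = c := by
        rw [hd, ← pow_add, show r + 1 + (r + 1) = orderOf c + 1 by omega, pow_succ, pow_orderOf_eq_one,
          one_mul]
      have hud : u * d * u⁻¹ = d⁻¹ := by rw [hd, ← conj_pow, huc, inv_pow]
      refine ⟨d, pow_mem hc _, mem_centralizer_singleton_iff.2 ?_⟩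
      have hud' : u * d⁻¹ * u⁻¹ = d := by
        have := congrArg (·⁻¹) hud
        simpa [mul_assoc] using this
      have h4 : d * u * d⁻¹ = v := by
        calc d * u * d⁻¹ = d * (u * d⁻¹ * u⁻¹) * u := by group
          _ = v := by rw [hud', hdd, hvc]
      calc d⁻¹ * g * u = d⁻¹ * (g * u * g⁻¹) * g := by group
        _ = d⁻¹ * (d * u * d⁻¹) * g := by rw [h4]
        _ = u * (d⁻¹ * g) := by group
    -- so the quotient is nilpotent
    refine not_solvable_quotient hns C hCsolv ?_
    haveI := hG u (Invol.ne_one hu)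
    refine Group.isSolvable_of_surjective
      (f := (QuotientGroup.mk' C).comp (centralizer ({u} : Set G)).subtype) fun x => ?_
    obtain ⟨g, rfl⟩ := QuotientGroup.mk'_surjective C x
    obtain ⟨d, hd, hgd⟩ := hfrat g
    refine ⟨⟨_, hgd⟩, ?_⟩
    show QuotientGroup.mk' C (d⁻¹ * g) = QuotientGroup.mk' C g
    rw [map_mul, map_inv, show QuotientGroup.mk' C d = 1 from (QuotientGroup.eq_one_iff d).2 hd, inv_one,
      one_mul]
  · -- a Sylow two-subgroup centralizes the centre
    obtain ⟨S⟩ : Nonempty (Sylow 2 G) := inferInstance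
    have hle : Cfsg.pCore 2 G ≤ (S : Subgroup G) := Core.pCore_le_sylow S
    haveI : ((Cfsg.pCore 2 G).subgroupOf (S : Subgroup G)).Normal := inferInstance
    obtain ⟨u, huQ, huc, hu⟩ := PGroup.exists_mem_center_orderOf_eq S.2
      (N := (Cfsg.pCore 2 G).subgroupOf (S : Subgroup G)) (by
        rw [Ne, subgroupOf_eq_bot, disjoint_iff, inf_of_le_left hle]; exact hQ)
    have hu1 : (u : G) ≠ 1 := fun e => by
      rw [show u = 1 from Subtype.ext e, orderOf_one] at hu; omega
    have hinf : P ⊓ Cfsg.pCore 2 G = ⊥ := by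
      refine (eq_bot_iff_forall _).2 fun x hx => ?_
      exact eq_one_of_odd_two (Core.pCore_isPGroup 2 G) hx.2 (hodd x hx.1)
    have hPu : ∀ x ∈ P, Commute x (u : G) := fun x hx =>
      Subgroup.commute_of_normal_of_disjoint P (Cfsg.pCore 2 G) inferInstance inferInstance
        (disjoint_iff.2 hinf) x u hx huQ
    have hSC : (S : Subgroup G) ≤ C := fun s hs => mem_centralizer_iff.2 fun z hz => by
      have hsu : Commute s (u : G) := congrArg Subtype.val (mem_center_iff.1 huc ⟨s, hs⟩)
      exact (commute_two_odd hG hu1 hsu (hPu z (hZP hz)) (exists_pow_two S.2 hs)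
        (hodd z (hZP hz))).symm.eq
    exact S.not_dvd_index (heven.trans (index_dvd_of_le hSC))

/-- The solvable normal subgroups of a non-solvable CN group are two-groups. -/
theorem solvable_normal_le (hG : Cfsg.IsCNGroup G) (hns : ¬ Group.IsSolvable G) (M : Subgroup G)
    [M.Normal] (hM : Group.IsSolvable M) : M ≤ Cfsg.pCore 2 G := by
  haveI : Fact (Nat.Prime 2) := ⟨Nat.prime_two⟩
  set Q := Cfsg.pCore 2 G with hQ
  haveI := (Core.pCore_isPGroup 2 G).isNilpotent
  have hQs : Group.IsSolvable Q := inferInstance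
  by_contra hle
  set π := QuotientGroup.mk' Q
  have hne : M.map π ≠ ⊥ := fun e => hle (by
    rw [Subgroup.map_eq_bot_iff, QuotientGroup.ker_mk'] at e; exact e)
  haveI hn : (M.map π).Normal := Subgroup.Normal.map inferInstance π (QuotientGroup.mk'_surjective Q)
  obtain ⟨E, hE, hEM⟩ := Core.exists_isMinNormal hn hne
  haveI := hE.1
  obtain ⟨-, q, hq, -, hEq⟩ := Core.minimal_solvable_elementary hE
    (Core.isSolvable_of_le hEM (Core.isSolvable_map hM π))
  haveI := Fact.mk hq
  rcases eq_or_ne q 2 with rfl | hq2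
  · have h1 := Core.le_pCore' hE.1 hEq
    exact hE.2.1 (le_bot_iff.1 (h1.trans (le_of_eq Core.pCore_quotient_pCore_eq_bot)))
  · exact hE.2.1 (no_odd_normal (quotient_isCN hG Q hQs) (not_solvable_quotient hns Q hQs) hq hq2 E hEq)

/-- Without a normal two-subgroup there is no solvable normal subgroup. -/
theorem solvable_normal_eq_bot (hG : Cfsg.IsCNGroup G) (hns : ¬ Group.IsSolvable G)
    (hQ : Cfsg.pCore 2 G = ⊥) (M : Subgroup G) [M.Normal] (hM : Group.IsSolvable M) : M = ⊥ :=
  le_bot_iff.1 (hQ ▸ solvable_normal_le hG hns M hM)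

theorem oddCore_eq_bot (hG : Cfsg.IsCNGroup G) (hns : ¬ Group.IsSolvable G) :
    oddCore G = ⊥ := by
  haveI hn : (oddCore G).Normal := (inferInstance : (Cfsg.pPrimeCore 2 G).Normal)
  have h2 : (Nat.card ↥(oddCore G)).Coprime 2 := Core.pPrimeCore_coprime 2 G
  have hsol : Group.IsSolvable (oddCore G) :=
    Local.CN.isSolvable_of_odd (Nat.coprime_two_right.1 h2) (Local.CN.isCN_of_injective hG (oddCore G).subtype
      (oddCore G).subtype_injective)
  refine (eq_bot_iff_forall _).2 fun x hx => eq_one_of_odd_two (Core.pCore_isPGroup 2 G)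
    (solvable_normal_le hG hns _ hsol hx) ?_
  exact (Nat.coprime_two_right.1 h2).of_dvd_nat (orderOf_dvd_natCard _ hx)

end Cfsg.Lib.CIT.CNStruct
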