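import Cfsg.Agent.Lib.CIT.CNStruct.PSLTwo
import Cfsg.Agent.Lib.Concrete.MTwentyOne

/-!
`PSL(3, 4)` as a normal subgroup of a CIT group: an elementary abelian subgroup of order nine and a
quaternion group normalizing it.
-/

set_option autoImplicit false
set_option linter.style.haveILetI false
set_option linter.unusedSectionVars false
set_option maxHeartbeats 1000000

namespace Cfsg.Lib.CIT.CNStruct

open Subgroup
open Cfsg.Lib
open scoped Pointwise MatrixGroups

universe u

variable {K : Type} [Field K]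

/-- Relations of a primitive cube root of unity in characteristic two. -/
structure Cube (w : K) : Prop where
  two : (2 : K) = 0
  sum : w ^ 2 = w + 1
  one_ne : w ≠ 1
  ne_zero : w ≠ 0

namespace Cube

variable {w : K} (h : Cube w)
include h

theorem three : (3 : K) = 1 := by linear_combination h.two
theorem four : (4 : K) = 0 := by linear_combination (2 : K) * h.two
theorem neg (a : K) : -a = a := by linear_combination -a * h.two
theorem p3 : w ^ 3 = 1 := by linear_combination (w + 1) * h.sum + w * h.two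
theorem p4 : w ^ 4 = w := by linear_combination w * h.p3
theorem p5 : w ^ 5 = w + 1 := by linear_combination w ^ 2 * h.p3 + h.sum
theorem p6 : w ^ 6 = 1 := by linear_combination (w ^ 3 + 1) * h.p3
theorem p7 : w ^ 7 = w := by linear_combination w * h.p6
theorem p8 : w ^ 8 = w + 1 := by linear_combination w ^ 2 * h.p6 + h.sum

end Cube

variable (w : K)

/-- `diag (w, w², 1)`. -/
def xM : Matrix (Fin 3) (Fin 3) K := !![w, 0, 0; 0, w ^ 2, 0; 0, 0, 1]
/-- A cyclic permutation. -/
def yM : Matrix (Fin 3) (Fin 3) K := !![0, 1, 0; 0, 0, 1; 1, 0, 0]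
/-- A transposition. -/
def zM : Matrix (Fin 3) (Fin 3) K := !![0, 1, 0; 1, 0, 0; 0, 0, 1]
/-- A character table. -/
def uM : Matrix (Fin 3) (Fin 3) K := !![w, w ^ 2, 1; w ^ 2, w, 1; 1, 1, 1]
/-- A twisted character table. -/
def vM : Matrix (Fin 3) (Fin 3) K := !![w, w ^ 2, w; w ^ 2, w, w; w ^ 2, w ^ 2, 1]

variable {w}

theorem mat_facts (h : Cube w) :
    (xM w).det = 1 ∧ (yM (K := K)).det = 1 ∧ (zM (K := K)).det = 1 ∧ (uM w).det = 1 ∧ (vM w).det = 1 ∧
    uM w * uM w = zM ∧ vM w * vM w = zM ∧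
    zM * xM w = xM w * xM w * zM ∧ zM * yM = yM * yM * (zM : Matrix (Fin 3) (Fin 3) K) ∧
    uM w * xM w = yM * uM w ∧ uM w * yM = xM w * xM w * uM w ∧
    vM w * xM w = w ^ 2 • (xM w * yM * vM w) ∧ vM w * yM = w • (xM w * (yM * yM) * vM w) ∧
    xM w * yM = w ^ 2 • (yM * xM w) ∧ xM w * xM w * xM w = 1 ∧ yM * yM * (yM : Matrix (Fin 3) (Fin 3) K) = 1 ∧
    zM * (zM : Matrix (Fin 3) (Fin 3) K) = 1 := by
  have e := h.two
  refine ⟨?_, ?_, ?_, ?_, ?_, ?_, ?_, ?_, ?_, ?_, ?_, ?_, ?_, ?_, ?_, ?_, ?_⟩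
  all_goals first
    | (simp only [Matrix.det_fin_three, xM, yM, zM, uM, vM]
       simp
       try ring_nf
       try simp [e, h.three, h.four, h.neg, h.sum, h.p3, h.p4, h.p5, h.p6, h.p7, h.p8]
       try ring_nf
       try simp [e, h.three, h.four, h.neg, h.sum, h.p3, h.p4, h.p5, h.p6, h.p7, h.p8]
       done)
    | (ext i j
       fin_cases i <;> fin_cases j <;> simp [Matrix.mul_apply, Fin.sum_univ_three, xM, yM, zM, uM, vM]
       all_goals try ring_nf
       all_goals try simp [e, h.three, h.four, h.neg, h.sum, h.p3, h.p4, h.p5, h.p6, h.p7, h.p8]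
       all_goals try ring_nf
       all_goals try simp [e, h.three, h.four, h.neg, h.sum, h.p3, h.p4, h.p5, h.p6, h.p7, h.p8]
       done)

variable {G : Type u} [Group G] [Finite G] {N : Subgroup G} [hNn : N.Normal]

theorem eq_top_of_psl_three_four (hG : IsCIT G) (hN : IsoPSLThreeFour N) : N = ⊤ := by
  obtain ⟨F, _, _, hF, ⟨e⟩⟩ := hN
  classical
  haveI : Fact (Nat.Prime 3) := ⟨Nat.prime_three⟩
  obtain ⟨ε, hε⟩ := exists_prime_orderOf_dvd_card' (G := Fˣ) 3
    (by rw [Nat.card_eq_fintype_card, Fintype.card_units, hF])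
  obtain ⟨w, hw⟩ : ∃ w : F, w = (ε : F) := ⟨_, rfl⟩
  have h2 : (2 : F) = 0 := by
    have h0 : ((Fintype.card F : ℕ) : F) = 0 := Nat.cast_card_eq_zero F
    rw [hF] at h0
    push_cast at h0
    have h22 : (2 : F) * 2 = 0 := by rw [← h0]; ring
    exact mul_self_eq_zero.1 h22
  have hc : Cube w := by
    have h1 : w ≠ 1 := fun h => by
      rw [hw, Units.val_eq_one] at h
      rw [h, orderOf_one] at hε
      omega
    have h3 : w ^ 3 = 1 := by
      rw [hw, ← Units.val_pow_eq_pow_val, ← hε, pow_orderOf_eq_one, Units.val_one]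
    refine ⟨h2, ?_, h1, hw ▸ ε.ne_zero⟩
    have : (w - 1) * (w ^ 2 + w + 1) = 0 := by linear_combination h3
    rcases mul_eq_zero.1 this with h | h
    · exact absurd (sub_eq_zero.1 h) h1
    · linear_combination h - (w + 1) * h2
  obtain ⟨dx, dy, dz, du, dv, uu, vv, zx, zy, ux, uy, vx, vy, xy, xxx, yyy, zz⟩ := mat_facts hc
  let xs : SL(3, F) := ⟨xM w, dx⟩
  let ys : SL(3, F) := ⟨yM, dy⟩
  let zs : SL(3, F) := ⟨zM, dz⟩
  let us : SL(3, F) := ⟨uM w, du⟩
  let vs : SL(3, F) := ⟨vM w, dv⟩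
  let π := QuotientGroup.mk' (Subgroup.center SL(3, F))
  have hsm : ∀ (c : F) (A B : SL(3, F)), c ^ 3 = 1 → A.1 = c • B.1 → π A = π B := by
    intro c A B hc3 h
    refine (QuotientGroup.eq).2 ?_
    refine Matrix.SpecialLinearGroup.mem_center_iff.2 ⟨c⁻¹, by rw [Fintype.card_fin, inv_pow, hc3, inv_one], ?_⟩
    have hc0 : c ≠ 0 := fun h0 => by simp [h0] at hc3
    have hBA : B.1 = c⁻¹ • A.1 := by rw [h, smul_smul, inv_mul_cancel₀ hc0, one_smul]
    show _ = ((A⁻¹ * B : SL(3, F)) : Matrix (Fin 3) (Fin 3) F)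
    rw [Matrix.SpecialLinearGroup.coe_mul, hBA, Matrix.mul_smul, ← Matrix.SpecialLinearGroup.coe_mul,
      inv_mul_cancel, Matrix.SpecialLinearGroup.coe_one, Matrix.scalar_apply, ← Matrix.smul_one_eq_diagonal]
  have hne : ∀ A : SL(3, F), (A.1 0 0 ≠ A.1 1 1 ∨ A.1 0 1 ≠ 0 ∨ A.1 0 2 ≠ 0) → π A ≠ 1 := by
    intro A hA h
    obtain ⟨r, -, hr⟩ := Matrix.SpecialLinearGroup.mem_center_iff.mp ((QuotientGroup.eq_one_iff A).mp h)
    rw [← hr] at hA
    simp at hA
  have w2 : (w ^ 2) ^ 3 = 1 := by rw [← pow_mul]; exact hc.p6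
  obtain ⟨x, hx⟩ : ∃ x, x = π xs := ⟨_, rfl⟩
  obtain ⟨y, hy⟩ : ∃ y, y = π ys := ⟨_, rfl⟩
  obtain ⟨z, hz⟩ : ∃ z, z = π zs := ⟨_, rfl⟩
  obtain ⟨u, hu⟩ : ∃ u, u = π us := ⟨_, rfl⟩
  obtain ⟨v, hv⟩ : ∃ v, v = π vs := ⟨_, rfl⟩
  have eq1 : x * y = y * x := by
    rw [hx, hy, ← map_mul, ← map_mul]; exact hsm _ _ _ w2 xy
  have eq3 : x * x * x = 1 := by
    rw [hx, ← map_mul, ← map_mul, show xs * xs * xs = 1 from Subtype.ext xxx, map_one]
  have eq4 : y * y * y = 1 := by
    rw [hy, ← map_mul, ← map_mul, show ys * ys * ys = 1 from Subtype.ext yyy, map_one]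
  have eq5 : u * u = z := by rw [hu, hz, ← map_mul]; exact congrArg π (Subtype.ext uu)
  have eq6 : v * v = z := by rw [hv, hz, ← map_mul]; exact congrArg π (Subtype.ext vv)
  have eq7 : z * z = 1 := by
    rw [hz, ← map_mul, show zs * zs = 1 from Subtype.ext zz, map_one]
  have eq8 : z * x = x * x * z := by
    rw [hz, hx, ← map_mul, ← map_mul, ← map_mul]; exact congrArg π (Subtype.ext zx)
  have eq9 : z * y = y * y * z := by
    rw [hz, hy, ← map_mul, ← map_mul, ← map_mul]; exact congrArg π (Subtype.ext zy)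
  have eq10 : u * x = y * u := by
    rw [hu, hx, hy, ← map_mul, ← map_mul]; exact congrArg π (Subtype.ext ux)
  have eq11 : u * y = x * x * u := by
    rw [hu, hx, hy, ← map_mul, ← map_mul, ← map_mul]; exact congrArg π (Subtype.ext uy)
  have eq12 : v * x = x * y * v := by
    rw [hv, hx, hy, ← map_mul, ← map_mul, ← map_mul]; exact hsm _ _ _ w2 vx
  have eq13 : v * y = x * (y * y) * v := by
    rw [hv, hx, hy, ← map_mul, ← map_mul, ← map_mul, ← map_mul]; exact hsm _ _ _ hc.p3 vy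
  have hx1 : x ≠ 1 := hx ▸ hne _ (Or.inl (by
    simp [xs, xM]
    intro h
    exact hc.one_ne (mul_left_cancel₀ hc.ne_zero (by linear_combination -h))))
  have hy1 : y ≠ 1 := hy ▸ hne _ (Or.inr (Or.inl (by simp [ys, yM])))
  have hxy1 : x * y ≠ 1 := by
    rw [hx, hy, ← map_mul]
    exact hne _ (Or.inr (Or.inl (by
      show (xM w * yM : Matrix (Fin 3) (Fin 3) F) 0 1 ≠ 0
      simp [xM, yM, Matrix.mul_apply, Fin.sum_univ_three, hc.ne_zero])))
  have hxy : x ≠ y := fun h => by
    have h' : x * (y * y) = 1 := by rw [h, ← mul_assoc]; exact eq4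
    revert h'
    rw [hx, hy, ← map_mul, ← map_mul]
    exact hne _ (Or.inr (Or.inr (by
      show (xM w * (yM * yM) : Matrix (Fin 3) (Fin 3) F) 0 2 ≠ 0
      simp [xM, yM, Matrix.mul_apply, Fin.sum_univ_three, hc.ne_zero])))
  have huv : u * v ≠ 1 := by
    rw [hu, hv, ← map_mul]
    refine hne _ (Or.inr (Or.inl ?_))
    show (uM w * vM w) 0 1 ≠ 0
    simp [uM, vM, Matrix.mul_apply, Fin.sum_univ_three]
    ring_nf
    simp [h2, hc.three, hc.four, hc.sum, hc.p3, hc.p4]
    intro h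
    exact hc.one_ne (by linear_combination h - h2)
  have hz1 : z ≠ 1 := hz ▸ hne _ (Or.inr (Or.inl (by simp [zs, zM])))
  have huv' : u ≠ v := fun h => by
    have h' : u * u * u * v = 1 := by rw [← h, mul_assoc (u * u), eq5, eq7]
    revert h'
    rw [hu, hv, ← map_mul, ← map_mul, ← map_mul]
    refine hne _ (Or.inr (Or.inl ?_))
    show (uM w * uM w * uM w * vM w) 0 1 ≠ 0
    rw [uu]
    simp [zM, uM, vM, Matrix.mul_apply, Fin.sum_univ_three]
    ring_nf
    simp [h2, hc.three, hc.four, hc.sum, hc.p3, hc.p4]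
    try exact hc.ne_zero
  -- the subgroup of order nine
  set A := Subgroup.closure ({x, y} : Set (Matrix.ProjectiveSpecialLinearGroup (Fin 3) F)) with hA
  have hxA : x ∈ A := subset_closure (by simp)
  have hyA : y ∈ A := subset_closure (by simp)
  haveI hAc : IsMulCommutative A := Subgroup.isMulCommutative_closure (by
    rintro a (rfl | rfl) b (rfl | rfl) <;> first | rfl | exact eq1 | exact eq1.symm)
  have hcA : ∀ a ∈ A, ∀ b ∈ A, Commute a b := fun a ha b hb =>
    congrArg Subtype.val (hAc.is_comm.comm ⟨a, ha⟩ ⟨b, hb⟩)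
  have hAp : ∀ a ∈ A, a ^ 3 = 1 ∧ z * a * z⁻¹ = a⁻¹ := by
    intro a ha
    induction ha using Subgroup.closure_induction with
    | mem a h =>
      rcases h with rfl | rfl
      · exact ⟨by rw [pow_succ, pow_two]; exact eq3, by
          rw [eq8, mul_inv_cancel_right]; exact eq_inv_of_mul_eq_one_left eq3⟩
      · exact ⟨by rw [pow_succ, pow_two]; exact eq4, by
          rw [eq9, mul_inv_cancel_right]; exact eq_inv_of_mul_eq_one_left eq4⟩
    | one => exact ⟨one_pow 3, by group⟩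
    | mul a b ha hb hpa hpb =>
      refine ⟨by rw [(hcA a ha b hb).mul_pow, hpa.1, hpb.1, one_mul], ?_⟩
      rw [show z * (a * b) * z⁻¹ = (z * a * z⁻¹) * (z * b * z⁻¹) by group, hpa.2, hpb.2,
        ← mul_inv_rev, (hcA a ha b hb).eq]
    | inv a ha hpa =>
      refine ⟨by rw [inv_pow, hpa.1, inv_one], ?_⟩
      rw [show z * a⁻¹ * z⁻¹ = (z * a * z⁻¹)⁻¹ by group, hpa.2]
  have hG20 := Cfsg.Lib.Concrete.MTwentyOne.card_psl34 F hF
  have hf2 : (Nat.card (Matrix.ProjectiveSpecialLinearGroup (Fin 3) F)).factorization 3 = 2 := by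
    rw [hG20, show 20160 = 3 ^ 2 * 2240 by norm_num, Nat.factorization_mul (by norm_num) (by norm_num),
      Finsupp.add_apply, Nat.Prime.factorization_pow Nat.prime_three, Finsupp.single_eq_same,
      Nat.factorization_eq_zero_of_not_dvd (by norm_num : ¬ 3 ∣ 2240)]
  have hAP : IsPGroup 3 A := fun a => ⟨1, Subtype.ext (by
    push_cast
    simpa using (hAp a a.2).1)⟩
  have hcard : Nat.card A = 9 := by
    obtain ⟨P, hP⟩ := hAP.exists_le_sylow
    have hd : Nat.card A ∣ 9 := by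
      have := Subgroup.card_dvd_of_le hP
      rwa [P.card_eq_multiplicity, hf2, show 3 ^ 2 = 9 from rfl] at this
    have h4 : 4 ≤ Nat.card A := by
      have hsub : ∀ i : Fin 4, (![1, x, y, x * y] : Fin 4 → _) i ∈ A := by
        intro i
        fin_cases i
        · exact one_mem A
        · exact hxA
        · exact hyA
        · exact mul_mem hxA hyA
      refine le_trans (Nat.card_fin 4).ge (Nat.card_le_card_of_injective (fun i => (⟨_, hsub i⟩ : A)) ?_)
      intro i j h
      have h' := congrArg Subtype.val h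
      fin_cases i <;> fin_cases j <;>
        simp [hx1, hy1, hxy, Ne.symm hxy, Ne.symm hx1, Ne.symm hy1, hxy1, Ne.symm hxy1] at h' ⊢
    rcases (Nat.dvd_prime_pow Nat.prime_three (m := 2)).1 hd with ⟨i, hi, hi'⟩
    interval_cases i <;> omega
  have hnorm : ∀ g, g * x * g⁻¹ ∈ A → g * y * g⁻¹ ∈ A →
      g ∈ normalizer (A : Set (Matrix.ProjectiveSpecialLinearGroup (Fin 3) F)) := fun g h1 h2 => by
    refine Invol.mem_normalizer_of_map_le ?_
    rw [hA, MonoidHom.map_closure, closure_le]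
    rintro _ ⟨a, ha | ha, rfl⟩ <;> subst ha
    · exact h1
    · exact h2
  have hzn : z ∈ normalizer (A : Set (Matrix.ProjectiveSpecialLinearGroup (Fin 3) F)) :=
    hnorm z (by rw [(hAp x hxA).2]; exact inv_mem hxA) (by rw [(hAp y hyA).2]; exact inv_mem hyA)
  have hun : u ∈ normalizer (A : Set (Matrix.ProjectiveSpecialLinearGroup (Fin 3) F)) :=
    hnorm u (by rw [eq10, mul_inv_cancel_right]; exact hyA)
      (by rw [eq11, mul_inv_cancel_right]; exact mul_mem hxA hxA)
  have hvn : v ∈ normalizer (A : Set (Matrix.ProjectiveSpecialLinearGroup (Fin 3) F)) :=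
    hnorm v (by rw [eq12, mul_inv_cancel_right]; exact mul_mem hxA hyA)
      (by rw [eq13, mul_inv_cancel_right]; exact mul_mem hxA (mul_mem hyA hyA))
  have hu1 : u ≠ 1 := fun h => hz1 (by rw [← eq5, h, one_mul])
  have hv1 : v ≠ 1 := fun h => hz1 (by rw [← eq6, h, one_mul])
  have huz : u ≠ z := fun h => hz1 (by
    have h' := eq5
    rw [h, eq7] at h'
    exact h'.symm)
  have hvz : v ≠ z := fun h => hz1 (by
    have h' := eq6
    rw [h, eq7] at h'
    exact h'.symm)
  have hui : u⁻¹ ≠ u := fun h => hz1 (by rw [← eq5]; nth_rw 1 [← h]; exact inv_mul_cancel u)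
  have huiz : u⁻¹ ≠ z := fun h => huz (by rw [← inv_inv u, h]; exact inv_eq_of_mul_eq_one_right eq7)
  have huiv : u⁻¹ ≠ v := fun h => huv (by rw [← h, mul_inv_cancel])
  have hl : ({1, z, u, u⁻¹, v} : Finset (Matrix.ProjectiveSpecialLinearGroup (Fin 3) F)).card = 5 := by
    simp [Ne.symm hz1, Ne.symm hu1, Ne.symm hv1, Ne.symm huz, Ne.symm hvz, Ne.symm hui, Ne.symm huiz, huiv,
      huv', hu1]
  have h := index_le_of_model hG e (A₀ := A)
    (fun h => by rw [h, Subgroup.card_bot] at hcard; omega)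
    (fun a ha => Odd.of_dvd_nat (hcard ▸ (by decide : Odd 9)) (orderOf_dvd_natCard _ ha))
    (Invol.orderOf_eq_two_of hz1 eq7) (fun a ha => (hAp a ha).2)
    (fun B hB => conj_of_sylow_card (p := 3) (by rw [hcard, hf2]; norm_num) hB)
    {1, z, u, u⁻¹, v} (by
      intro s hs
      simp only [Finset.mem_insert, Finset.mem_singleton] at hs
      have huc : Commute u z := eq5 ▸ (Commute.refl u).mul_right (Commute.refl u)
      have hvc : Commute v z := eq6 ▸ (Commute.refl v).mul_right (Commute.refl v)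
      rcases hs with rfl | rfl | rfl | rfl | rfl
      · exact ⟨Commute.one_left _, one_mem _⟩
      · exact ⟨Commute.refl _, hzn⟩
      · exact ⟨huc, hun⟩
      · exact ⟨huc.inv_left, inv_mem hun⟩
      · exact ⟨hvc, hvn⟩)
  rw [hl, hcard] at h
  have h0 : N.index ≠ 0 := Subgroup.index_ne_zero_of_finite
  exact Subgroup.index_eq_one.1 (by omega)

end Cfsg.Lib.CIT.CNStruct
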