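import Cfsg.Agent.Lib.CIT.CNStruct.Model
import Cfsg.Agent.Lib.CIT.PSLList
import Cfsg.Agent.Lib.Recog.OrderSpecPSL.Basic

/-!
`PSL(2, p)`, `p` a Fermat or Mersenne prime, and `PSL(2, 9)` as normal subgroups of CIT groups.
-/

set_option autoImplicit false
set_option linter.style.haveILetI false
set_option linter.unusedSectionVars false

namespace Cfsg.Lib.CIT.CNStruct

open Subgroup
open Cfsg.Lib
open scoped Pointwise MatrixGroups

universe u

variable {G : Type u} [Group G] [Finite G] {N : Subgroup G} [hNn : N.Normal]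

variable {K : Type} [Field K]

/-- A unitriangular matrix. -/
def uMat (b : K) : SL(2, K) := ⟨!![1, b; 0, 1], by simp [Matrix.det_fin_two_of]⟩

/-- A diagonal matrix. -/
def dMat (c : Kˣ) : SL(2, K) := ⟨!![(c : K), 0; 0, ((c⁻¹ : Kˣ) : K)], by simp [Matrix.det_fin_two_of]⟩

theorem uMat_val (b : K) : (uMat b : Matrix (Fin 2) (Fin 2) K) = !![1, b; 0, 1] := rfl

theorem dMat_val (c : Kˣ) :
    (dMat c : Matrix (Fin 2) (Fin 2) K) = !![(c : K), 0; 0, ((c⁻¹ : Kˣ) : K)] := rfl

theorem uMat_add (b c : K) : uMat (b + c) = uMat b * uMat c := by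
  apply Subtype.ext
  rw [Matrix.SpecialLinearGroup.coe_mul, uMat_val, uMat_val, uMat_val, Matrix.mul_fin_two]
  ext i j
  fin_cases i <;> fin_cases j <;> simp [add_comm]

theorem dMat_mul (c d : Kˣ) : dMat (c * d) = dMat c * dMat d := by
  apply Subtype.ext
  rw [Matrix.SpecialLinearGroup.coe_mul, dMat_val, dMat_val, dMat_val, Matrix.mul_fin_two]
  ext i j
  fin_cases i <;> fin_cases j <;> simp [mul_comm]

theorem dMat_uMat (c : Kˣ) (b : K) : dMat c * uMat b = uMat ((c : K) * (c : K) * b) * dMat c := by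
  apply Subtype.ext
  rw [Matrix.SpecialLinearGroup.coe_mul, Matrix.SpecialLinearGroup.coe_mul, dMat_val, uMat_val, uMat_val,
    Matrix.mul_fin_two, Matrix.mul_fin_two]
  ext i j
  fin_cases i <;> fin_cases j <;> simp
  field_simp

theorem dMat_mem_center {c : Kˣ} (h : (c : K) = -1) : dMat c ∈ Subgroup.center SL(2, K) := by
  refine Matrix.SpecialLinearGroup.mem_center_iff.2 ⟨-1, by simp, ?_⟩
  rw [dMat_val]
  ext i j
  fin_cases i <;> fin_cases j <;> simp [h]

/-- Subgroups of the order of a Sylow subgroup are conjugate. -/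
theorem conj_of_sylow_card {X : Type*} [Group X] [Finite X] {p : ℕ} [Fact p.Prime] {A B : Subgroup X}
    (hA : Nat.card A = p ^ (Nat.card X).factorization p) (hB : Nat.card B = Nat.card A) :
    ∃ n : X, B.map (MulAut.conj n).toMonoidHom = A := by
  obtain ⟨P, hP⟩ := (IsPGroup.of_card hA).exists_le_sylow
  obtain ⟨P', hP'⟩ := (IsPGroup.of_card (hB.trans hA)).exists_le_sylow
  have h1 : A = (P : Subgroup X) := eq_of_le_of_card_ge hP (by rw [P.card_eq_multiplicity, hA])
  have h2 : B = (P' : Subgroup X) := eq_of_le_of_card_ge hP' (by rw [P'.card_eq_multiplicity, hB, hA])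
  obtain ⟨n, hn⟩ := MulAction.exists_smul_eq X P' P
  refine ⟨n, ?_⟩
  rw [h1, h2, ← hn, Sylow.coe_subgroup_smul]
  rfl

theorem eq_top_of_psl_prime (hG : IsCIT G) [Fintype K]
    (e : N ≃* Matrix.ProjectiveSpecialLinearGroup (Fin 2) K) (hq : (Fintype.card K).Prime)
    (h7 : 7 ≤ Fintype.card K) (hk : ∃ k : ℕ, Fintype.card K = 2 ^ k + 1 ∨ Fintype.card K + 1 = 2 ^ k) :
    N = ⊤ := by
  classical
  haveI : Fact (Nat.Prime 3) := ⟨Nat.prime_three⟩
  obtain ⟨p, hp, hpc, n, hn0, hn⟩ := Dickson.exists_char (F := K)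
  haveI := Fact.mk hp
  haveI := hpc
  obtain ⟨q, hqdef⟩ : ∃ q, q = Fintype.card K := ⟨_, rfl⟩
  have hq2 : q % 2 = 1 := by
    rcases hq.eq_two_or_odd with h | h
    · omega
    · omega
  have hq3 : ¬ 3 ∣ q := fun h => by
    have := (Nat.prime_dvd_prime_iff_eq Nat.prime_three hq).1 (hqdef ▸ h)
    omega
  have hp3 : p ≠ 3 := fun h => hq3 (hqdef ▸ hn ▸ h ▸ dvd_pow_self p hn0.ne')
  obtain ⟨a, b, hab⟩ := ClassSizePSL.exists_oddData (hqdef ▸ hq2) h7
  rw [← hqdef] at h7 hk hab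
  have h3b : 3 ∣ b := by
    obtain ⟨k, hk⟩ := hk
    have hk2 : 3 ≤ k := by
      by_contra h
      have := Nat.pow_le_pow_right two_pos (show k ≤ 2 by omega)
      omega
    have h8 : 8 ∣ 2 ^ k := pow_dvd_pow 2 hk2
    have h3 : 2 ^ k % 3 = 1 ∨ 2 ^ k % 3 = 2 := by
      clear hk hk2 h8
      induction k with
      | zero => simp
      | succ k ih => rw [pow_succ]; omega
    have := hab.a4
    have := hab.b_odd
    rcases hab.sum with ⟨e1, e2⟩ | ⟨e1, e2⟩ <;> omega
  obtain ⟨b', hb'⟩ := h3b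
  obtain ⟨x, hx, -⟩ := ClassSizePSL.exists_torus_b (F := K) (hqdef ▸ hab)
  have hb'0 : b' ≠ 0 := by rintro rfl; have := hab.b3; omega
  obtain ⟨x₀, hx₀⟩ : ∃ x₀, x₀ = x ^ b' := ⟨_, rfl⟩
  have hx₀3 : orderOf x₀ = 3 := by
    rw [hx₀, orderOf_pow_of_dvd hb'0 (hx ▸ hb' ▸ dvd_mul_left b' 3), hx, hb',
      Nat.mul_div_cancel _ (Nat.pos_of_ne_zero hb'0)]
  obtain ⟨g, rfl⟩ := QuotientGroup.mk_surjective x₀
  obtain ⟨z, hz, hzx⟩ := Dickson.exists_inverting p g (fun h => by
    have h1 := orderOf_dvd_of_pow_eq_one h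
    rw [hx₀3] at h1
    exact hp3 ((Nat.prime_dvd_prime_iff_eq Nat.prime_three hp).1 h1).symm)
  obtain ⟨x₀, hx₀def⟩ : ∃ x₀, x₀ = (QuotientGroup.mk g : Matrix.ProjectiveSpecialLinearGroup (Fin 2) K) :=
    ⟨_, rfl⟩
  rw [← hx₀def] at hx₀ hx₀3 hzx
  have hz1 : z ≠ 1 := fun h => by
    rw [h, one_mul, inv_one, mul_one] at hzx
    have h2 : x₀ ^ 2 = 1 := by
      rw [pow_two]
      calc x₀ * x₀ = x₀⁻¹ * x₀ := by rw [← hzx]
        _ = 1 := inv_mul_cancel x₀
    have := orderOf_dvd_of_pow_eq_one h2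
    rw [hx₀3] at this
    norm_num at this
  have hinv : ∀ w ∈ zpowers x₀, z * w * z⁻¹ = w⁻¹ := by
    intro w hw
    obtain ⟨i, rfl⟩ := mem_zpowers_iff.1 hw
    rw [← conj_zpow, hzx, inv_zpow]
  have hzn : z ∈ normalizer (zpowers x₀ : Set (Matrix.ProjectiveSpecialLinearGroup (Fin 2) K)) := by
    refine Invol.mem_normalizer_of_map_le ?_
    rintro _ ⟨w, hw, rfl⟩
    simp only [MulEquiv.coe_toMonoidHom, MulAut.conj_apply]
    rw [hinv w hw]
    exact inv_mem hw
  -- the Sylow three-subgroup is cyclic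
  obtain ⟨j, m, hm, hbj⟩ := Nat.exists_eq_pow_mul_and_not_dvd (n := b) (by omega) 3 (by norm_num)
  have hm0 : m ≠ 0 := fun h => hm (h ▸ dvd_zero 3)
  have hym : orderOf (x ^ m) = 3 ^ j := by
    rw [orderOf_pow_of_dvd hm0 (hx ▸ hbj ▸ dvd_mul_left m _), hx, hbj,
      Nat.mul_div_cancel _ (Nat.pos_of_ne_zero hm0)]
  have hidx : ¬ 3 ∣ (zpowers (x ^ m)).index := by
    have h1 := (zpowers (x ^ m)).card_mul_index
    rw [ClassSizePSL.card_psl_odd (hqdef ▸ hab), Nat.card_zpowers, hym, ← hqdef, hbj,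
      show q * (a * (3 ^ j * m)) = 3 ^ j * (q * a * m) by ring] at h1
    rw [Nat.eq_of_mul_eq_mul_left (pow_pos (by norm_num) j) h1]
    intro h
    rcases Nat.prime_three.dvd_mul.1 h with h | h
    · rcases Nat.prime_three.dvd_mul.1 h with h | h
      · exact hq3 h
      · have := Nat.dvd_gcd h (hb' ▸ dvd_mul_right 3 b' : 3 ∣ b)
        rw [hab.coprime_ab] at this
        exact absurd this (by norm_num)
    · exact hm h
  let P := (IsPGroup.of_card (p := 3) (n := j) (by rw [Nat.card_zpowers, hym]) :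
    IsPGroup 3 (zpowers (x ^ m))).toSylow hidx
  have hconj : ∀ B : Subgroup (Matrix.ProjectiveSpecialLinearGroup (Fin 2) K),
      Nat.card B = Nat.card (zpowers x₀) → ∃ v, B.map (MulAut.conj v).toMonoidHom = zpowers x₀ := by
    intro B hB
    rw [Nat.card_zpowers, hx₀3] at hB
    obtain ⟨P', hP'⟩ := (IsPGroup.of_card (n := 1) (hB.trans (pow_one 3).symm)).exists_le_sylow
    obtain ⟨v, hv⟩ := MulAction.exists_smul_eq (Matrix.ProjectiveSpecialLinearGroup (Fin 2) K) P' P
    refine ⟨v, eq_of_le_of_card_ge ?_ (by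
      rw [Nat.card_zpowers, hx₀3, Subgroup.card_map_of_injective (MulAut.conj v).injective, hB])⟩
    have hcard3 : Nat.card ↥(B.map (MulAut.conj v).toMonoidHom) = 3 := by
      rw [Subgroup.card_map_of_injective (MulAut.conj v).injective, hB]
    rintro w hw
    by_cases hw1 : w = 1
    · rw [hw1]; exact one_mem _
    have hwP : w ∈ zpowers (x ^ m) := by
      show w ∈ (P : Subgroup _)
      rw [← hv, Sylow.coe_subgroup_smul]
      obtain ⟨w', hw', rfl⟩ := hw
      exact Subgroup.smul_mem_pointwise_smul w' (MulAut.conj v) _ (hP' hw')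
    have hw3 : orderOf w = 3 :=
      ((Nat.dvd_prime Nat.prime_three).1 (hcard3 ▸ orderOf_dvd_natCard _ hw)).resolve_left
        (fun e => hw1 (orderOf_eq_one_iff.1 e))
    obtain ⟨j', rfl⟩ : ∃ j', j = j' + 1 := ⟨j - 1, by
      rcases j with _ | j
      · exact absurd (hbj ▸ hb' ▸ dvd_mul_right 3 b') (by simpa using hm)
      · omega⟩
    have hx₀P : x₀ ∈ zpowers (x ^ m) := by
      have hbb : b' = m * 3 ^ j' := by
        have := hbj
        rw [hb', pow_succ] at this
        refine Nat.eq_of_mul_eq_mul_left (by norm_num : 0 < 3) ?_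
        rw [this]; ring
      rw [hx₀, hbb, pow_mul]; exact pow_mem (mem_zpowers _) _
    have h1 := Recog.OrderSpecPSL.mem_zpowers_of_orderOf_eq
      (g := (⟨x₀, hx₀P⟩ : zpowers (x ^ m))) (x := ⟨w, hwP⟩)
      (by rw [Subgroup.orderOf_mk, Subgroup.orderOf_mk, hx₀3, hw3])
    obtain ⟨i, hi⟩ := h1
    exact ⟨i, congrArg Subtype.val hi⟩
  have h := index_le_of_model hG e (A₀ := zpowers x₀)
    (fun h => by rw [zpowers_eq_bot] at h; rw [h, orderOf_one] at hx₀3; omega)
    (fun w hw => Odd.of_dvd_nat (hx₀3 ▸ (by decide : Odd 3)) (orderOf_dvd_of_mem_zpowers hw))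
    (Invol.orderOf_eq_two_of hz1 hz) hinv hconj {1, z} (by
      intro s hs
      rw [Finset.mem_insert, Finset.mem_singleton] at hs
      rcases hs with rfl | rfl
      · exact ⟨Commute.one_left _, one_mem _⟩
      · exact ⟨Commute.refl _, hzn⟩)
  rw [Finset.card_pair (Ne.symm hz1), Nat.card_zpowers, hx₀3] at h
  have h0 : N.index ≠ 0 := Subgroup.index_ne_zero_of_finite
  exact Subgroup.index_eq_one.1 (by omega)

theorem index_le_two_of_psl_nine (hG : IsCIT G) [Fintype K]
    (e : N ≃* Matrix.ProjectiveSpecialLinearGroup (Fin 2) K) (hK : Fintype.card K = 9) :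
    N.index = 1 ∨ N.index = 2 := by
  classical
  haveI : Fact (Nat.Prime 3) := ⟨Nat.prime_three⟩
  obtain ⟨ε, hε⟩ := IsCyclic.exists_ofOrder_eq_natCard (α := Kˣ)
  rw [Nat.card_eq_fintype_card, Fintype.card_units, hK] at hε
  have hε4 : (ε : K) ^ 4 = -1 := by
    have h1 : ((ε : K) ^ 4) * (ε : K) ^ 4 = 1 := by
      rw [← pow_add, ← Units.val_pow_eq_pow_val, show 4 + 4 = orderOf ε from hε.symm, pow_orderOf_eq_one,
        Units.val_one]
    refine (mul_self_eq_one_iff.1 h1).resolve_left fun h => ?_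
    have := orderOf_dvd_of_pow_eq_one (x := ε) (n := 4) (Units.ext (by simpa using h))
    rw [hε] at this
    norm_num at this
  have hne : (-1 : K) ≠ 1 := fun h => by
    have := orderOf_dvd_of_pow_eq_one (x := ε) (n := 4) (Units.ext (by simpa using hε4.trans h))
    rw [hε] at this
    norm_num at this
  let π := QuotientGroup.mk' (Subgroup.center SL(2, K))
  let f : Multiplicative K →* Matrix.ProjectiveSpecialLinearGroup (Fin 2) K :=
    MonoidHom.mk' (fun b => π (uMat b.toAdd)) (fun b c => by rw [← map_mul, ← uMat_add]; rfl)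
  have hf : Function.Injective f := by
    refine (injective_iff_map_eq_one f).2 fun b hb => ?_
    exact ((Dickson.mem_center_sl ((QuotientGroup.eq_one_iff _).1 hb)).1 : b.toAdd = 0)
  obtain ⟨z, hz⟩ : ∃ z, z = π (dMat (ε ^ 2)) := ⟨_, rfl⟩
  obtain ⟨w, hw⟩ : ∃ w, w = π (dMat ε) := ⟨_, rfl⟩
  have hww : w * w = z := by rw [hw, hz, ← map_mul, ← dMat_mul, pow_two]
  have h22 : ((ε ^ 2 * ε ^ 2 : Kˣ) : K) = -1 := by rw [← pow_add]; push_cast; exact hε4
  have hzz : z * z = 1 := by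
    rw [hz, ← map_mul, ← dMat_mul]
    exact (QuotientGroup.eq_one_iff _).2 (dMat_mem_center h22)
  have hz1 : z ≠ 1 := fun h => by
    rw [hz] at h
    obtain ⟨-, -, h3⟩ := Dickson.mem_center_sl ((QuotientGroup.eq_one_iff _).1 h)
    have h3' : (((ε ^ 2)⁻¹ : Kˣ) : K) = ((ε ^ 2 : Kˣ) : K) := h3
    have h4 : (ε ^ 2) * (ε ^ 2) = 1 := by
      nth_rw 2 [← Units.ext h3']
      exact mul_inv_cancel _
    refine hne ?_
    rw [← hε4, ← Units.val_pow_eq_pow_val, show 4 = 2 + 2 from rfl, pow_add, h4, Units.val_one]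
  have hconjD : ∀ (c : Kˣ) b, π (dMat c) * f b * (π (dMat c))⁻¹ =
      f (Multiplicative.ofAdd ((c : K) * (c : K) * b.toAdd)) := fun c b => by
    show π (dMat c) * π (uMat b.toAdd) * (π (dMat c))⁻¹ = π (uMat ((c : K) * (c : K) * b.toAdd))
    rw [← map_mul, dMat_uMat, map_mul, mul_inv_cancel_right]
  have hinv : ∀ a ∈ f.range, z * a * z⁻¹ = a⁻¹ := by
    rintro _ ⟨b, rfl⟩
    rw [hz, hconjD, ← map_inv]
    refine congrArg f (congrArg Multiplicative.ofAdd ?_)
    show _ = -b.toAdd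
    rw [← Units.val_mul, h22, neg_one_mul]
  have hwn : ∀ c : Kˣ, π (dMat c) ∈ normalizer (f.range : Set (Matrix.ProjectiveSpecialLinearGroup (Fin 2) K)) := by
    intro c
    refine Invol.mem_normalizer_of_map_le ?_
    rintro _ ⟨_, ⟨b, rfl⟩, rfl⟩
    exact ⟨_, (hconjD c b).symm⟩
  have hw1 : w ≠ 1 := fun h => hz1 (by rw [← hww, h, one_mul])
  have hwz : w ≠ z := fun h => hw1 (mul_left_cancel (a := z) (by rw [mul_one]; nth_rw 1 [← h]; exact hww))
  have hcard : Nat.card f.range = 9 := by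
    rw [Nat.card_congr (MonoidHom.ofInjective hf).toEquiv.symm, Nat.card_eq_fintype_card,
      Fintype.card_multiplicative, hK]
  have h := index_le_of_model hG e (A₀ := f.range)
    (fun h => by rw [h, Subgroup.card_bot] at hcard; omega)
    (fun a ha => Odd.of_dvd_nat (hcard ▸ (by decide : Odd 9)) (orderOf_dvd_natCard _ ha))
    (Invol.orderOf_eq_two_of hz1 hzz) hinv
    (fun B hB => conj_of_sylow_card (p := 3) (by
      have hc := Cfsg.Lib.Linear.Two.card_PSL_two (F := K)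
      rw [hK] at hc
      norm_num at hc
      have h360 : Nat.card (Matrix.ProjectiveSpecialLinearGroup (Fin 2) K) = 3 ^ 2 * 40 := by
        refine Nat.eq_of_mul_eq_mul_left two_pos ?_
        have h' := Cfsg.Lib.Linear.Two.card_PSL_two (F := K)
        rw [hK] at h'
        exact h'.trans (by norm_num)
      rw [hcard, h360, Nat.factorization_mul (by norm_num) (by norm_num), Finsupp.add_apply,
        Nat.Prime.factorization_pow Nat.prime_three, Finsupp.single_eq_same,
        Nat.factorization_eq_zero_of_not_dvd (by norm_num : ¬ 3 ∣ 40)]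
      norm_num) hB)
    {1, z, w, w⁻¹} (by
      intro s hs
      simp only [Finset.mem_insert, Finset.mem_singleton] at hs
      have hwzc : Commute w z := hww ▸ (Commute.refl w).mul_right (Commute.refl w)
      rcases hs with rfl | rfl | rfl | rfl
      · exact ⟨Commute.one_left _, one_mem _⟩
      · exact ⟨Commute.refl _, hz ▸ hwn _⟩
      · exact ⟨hwzc, hw ▸ hwn _⟩
      · exact ⟨hwzc.inv_left, inv_mem (hw ▸ hwn _)⟩)
  have hzi : z⁻¹ = z := inv_eq_of_mul_eq_one_right hzz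
  have hwi : w ≠ w⁻¹ := fun h => hz1 (by rw [← hww]; nth_rw 2 [h]; exact mul_inv_cancel w)
  have hzwi : z ≠ w⁻¹ := fun h => hwz (by rw [← inv_inv w, ← h, hzi])
  have hl : ({1, z, w, w⁻¹} : Finset (Matrix.ProjectiveSpecialLinearGroup (Fin 2) K)).card = 4 := by
    rw [Finset.card_insert_of_notMem, Finset.card_insert_of_notMem, Finset.card_pair hwi]
    · simp [Ne.symm hwz, hzwi]
    · simp [Ne.symm hz1, Ne.symm hw1, hw1]
  rw [hl, hcard] at h
  have h0 : N.index ≠ 0 := Subgroup.index_ne_zero_of_finite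
  omega

end Cfsg.Lib.CIT.CNStruct
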