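import Cfsg.Agent.Lib.CIT.CNStruct.Basic
import Cfsg.Agent.Lib.CIT.Consumers.Inputs

/-!
Non-solvable CN groups without normal two-subgroup: the socle is simple and the group is CIT.
-/

set_option autoImplicit false
set_option linter.style.haveILetI false
set_option linter.unusedSectionVars false

namespace Cfsg.Lib.CIT.CNStruct

open Subgroup
open Cfsg.Lib
open scoped Pointwise

universe u

variable {G : Type u} [Group G] [Finite G]

theorem involution_pow {u : G} (hu : orderOf u = 2) : ∃ k : ℕ, u ^ 2 ^ k = 1 :=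
  ⟨1, by rw [pow_one, pow_two]; exact Invol.inv_mul_self hu⟩

/-- A simple normal subgroup with trivial centralizer. -/
theorem exists_simple_normal (hG : Cfsg.IsCNGroup G) (hns : ¬ Group.IsSolvable G)
    (hQ : Cfsg.pCore 2 G = ⊥) :
    ∃ N : Subgroup G, ∃ _ : N.Normal, IsSimpleGroup N ∧ ¬ IsMulCommutative N ∧
      centralizer (N : Set G) = ⊥ := by
  haveI : Fact (Nat.Prime 2) := ⟨Nat.prime_two⟩
  haveI : Nontrivial G := by
    by_contra h
    rw [not_nontrivial_iff_subsingleton] at h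
    exact hns inferInstance
  obtain ⟨N, hN⟩ := Core.exists_isMinNormal_univ (G := G)
  haveI hNn := hN.1
  have hNb := hN.2.1
  have hnsN : ¬ Group.IsSolvable N := fun h => hNb (solvable_normal_eq_bot hG hns hQ N h)
  have hGN : Cfsg.IsCNGroup N := Local.CN.isCN_of_injective hG N.subtype N.subtype_injective
  have hQN : Cfsg.pCore 2 N = ⊥ := by
    have h := Core.le_pCore' (Core.normal_map_char_of_normal (Cfsg.pCore 2 N))
      ((Core.pCore_isPGroup 2 N).map N.subtype)
    rw [hQ, le_bot_iff, Subgroup.map_eq_bot_iff_of_injective _ N.subtype_injective] at h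
    exact h
  haveI : Nontrivial N := (nontrivial_iff_ne_bot N).2 hNb
  refine ⟨N, hNn, ⟨fun K hK => ?_⟩, fun h => hnsN ?_, ?_⟩
  · by_contra hKtriv
    push Not at hKtriv
    obtain ⟨L, hL, hLK⟩ := Core.exists_isMinNormal hK hKtriv.1
    haveI := hL.1
    -- some conjugate of `L` differs from `L`
    obtain ⟨x, hx⟩ : ∃ x : G, ¬ ∀ l ∈ L, ∀ hl : x * (l : G) * x⁻¹ ∈ N,
        (⟨_, hl⟩ : N) ∈ L := by
      by_contra h
      push Not at h
      have hn : (L.map N.subtype).Normal := ⟨fun a ha x => by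
        obtain ⟨l, hl, rfl⟩ := ha
        exact ⟨⟨_, hNn.conj_mem _ l.2 x⟩, h x l hl _, rfl⟩⟩
      rcases hN.2.2 _ hn (map_subtype_le _) with e | e
      · exact hL.2.1 ((Subgroup.map_eq_bot_iff_of_injective _ N.subtype_injective).1 e)
      · refine hKtriv.2 (top_le_iff.mp (le_trans (fun y _ => ?_) hLK))
        obtain ⟨l, hl, hly⟩ := (e.symm ▸ y.2 : (y : G) ∈ L.map N.subtype)
        rwa [← Subtype.ext hly]
    let c : N ≃* N := MulAut.conjNormal x
    set L₂ := L.map c.toMonoidHom with hL₂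
    haveI : L₂.Normal := Subgroup.Normal.map inferInstance _ c.surjective
    have hinf : L ⊓ L₂ = ⊥ := by
      rcases hL.inf_eq_bot_or_le L₂ with h | h
      · exact h
      exfalso
      have h2 : L = L₂ := Subgroup.eq_of_le_of_card_ge h
        (le_of_eq (Nat.card_congr (L.equivMapOfInjective c.toMonoidHom c.injective).toEquiv).symm)
      refine hx fun l hl hlN => ?_
      have : c l ∈ L₂ := ⟨l, hl, rfl⟩
      rw [← h2] at this
      convert this using 1
      exact Subtype.ext (MulAut.conjNormal_apply x l).symm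
    obtain ⟨v, hv, hv1⟩ := (bot_or_exists_ne_one L).resolve_left hL.2.1
    have hle : L₂ ≤ centralizer ({v} : Set N) := fun b hb => mem_centralizer_singleton_iff.2
      (Subgroup.commute_of_normal_of_disjoint L L₂ inferInstance inferInstance
        (disjoint_iff.mpr hinf) v b hv hb).symm
    have hb := solvable_normal_eq_bot hGN hnsN hQN L₂
      (isSolvable_of_isNilpotent (Core.isNilpotent_of_le hle (hGN v hv1)))
    exact hL.2.1 ((Subgroup.map_eq_bot_iff_of_injective L (f := c.toMonoidHom) c.injective).mp hb)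
  · haveI := h
    exact Core.isSolvable_of_isMulCommutative N
  · haveI : (centralizer (N : Set G)).Normal := inferInstance
    exact solvable_normal_eq_bot hG hns hQ _ (isSolvable_of_isNilpotent (centralizer_nilpotent hG hNb))

variable {N : Subgroup G} [hNn : N.Normal]

/-- An element of a simple CIT subgroup centralizing a non-identity two-element of it is a two-element. -/
theorem two_of_commute (hN : IsCIT N) {w b : G} (hw : w ∈ N) (hb : b ∈ N) (hw1 : w ≠ 1)
    (hwk : ∃ k : ℕ, w ^ 2 ^ k = 1) (hc : Commute b w) : ∃ k : ℕ, b ^ 2 ^ k = 1 := by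
  obtain ⟨k, hk⟩ := hwk
  obtain ⟨j, hj⟩ := hN.isPGroup_centralizer (y := ⟨w, hw⟩) ⟨k, Subtype.ext hk⟩
    (fun e => hw1 (congrArg Subtype.val e)) ⟨⟨b, hb⟩, mem_centralizer_singleton_iff.2 (Subtype.ext hc.eq)⟩
  exact ⟨j, congrArg (fun v : centralizer ({(⟨w, hw⟩ : N)} : Set N) => ((v : N) : G)) hj⟩

/-- No element of odd order centralizes an involution of a simple normal subgroup. -/
theorem not_commute_involution (hG : Cfsg.IsCNGroup G) [IsSimpleGroup N] (hna : ¬ IsMulCommutative N)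
    {u y : G} (hu : u ∈ N) (hu2 : orderOf u = 2) (hy1 : y ≠ 1) (hyo : Odd (orderOf y))
    (hc : Commute y u) : False := by
  haveI : Fact (Nat.Prime 2) := ⟨Nat.prime_two⟩
  have hN : IsCIT N := isCIT_of_isCN hna (Local.CN.isCN_of_injective hG N.subtype N.subtype_injective)
  have hu1 : u ≠ 1 := Invol.ne_one hu2
  have huk : ∃ k : ℕ, u ^ 2 ^ k = 1 := (involution_pow hu2)
  have key : ∀ w b : G, w ∈ N → b ∈ N → w ≠ 1 → (∃ k : ℕ, w ^ 2 ^ k = 1) → Commute y w → Commute b w →
      Commute y b := fun w b hw hb hw1 hwk hyw hbw =>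
    (commute_two_odd hG hw1 hbw hyw (two_of_commute hN hw hb hw1 hwk hbw) hyo).symm
  set Y := (centralizer ({y} : Set G)).subgroupOf N with hY
  have hmemY : ∀ b : N, b ∈ Y ↔ Commute (b : G) y := fun b => by
    rw [hY, mem_subgroupOf, mem_centralizer_singleton_iff]; rfl
  have hY2 : IsPGroup 2 Y := by
    intro b
    obtain ⟨k, m, hm, hr⟩ := Nat.exists_eq_two_pow_mul_odd (n := orderOf ((b : N) : G)) (orderOf_pos _).ne'
    refine ⟨k, Subtype.ext (Subtype.ext ?_)⟩
    show ((b : N) : G) ^ 2 ^ k = 1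
    have ho : Odd (orderOf (((b : N) : G) ^ 2 ^ k)) := by
      rw [orderOf_pow, hr, Nat.gcd_mul_right_left, Nat.mul_div_cancel_left _ (by positivity)]
      exact hm
    have hcu : Commute u (((b : N) : G) ^ 2 ^ k) := commute_two_odd hG hy1 hc.symm
      (((hmemY _).1 b.2).pow_left _) huk ho
    obtain ⟨j, hj⟩ := two_of_commute hN hu (pow_mem (b : N).2 _) hu1 huk hcu.symm
    exact orderOf_eq_one_iff.1 (Nat.eq_one_of_dvd_coprimes
      (Nat.Coprime.pow_left j (Nat.coprime_two_left.2 ho)) (orderOf_dvd_of_pow_eq_one hj) dvd_rfl)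
  -- Sylow subgroups containing a centralized involution are centralized
  have hsyl : ∀ (T : Sylow 2 N) (w : N), w ∈ (T : Subgroup N) → w ≠ 1 → Commute y (w : G) →
      (T : Subgroup N) = Y := by
    intro T w hwT hw1 hyw
    haveI : Nontrivial (T : Subgroup N) := ⟨⟨⟨w, hwT⟩, 1, fun e => hw1 (congrArg Subtype.val e)⟩⟩
    obtain ⟨z, -, hzc, hz⟩ := PGroup.exists_mem_center_orderOf_eq T.2
      (N := (⊤ : Subgroup (T : Subgroup N))) top_ne_bot
    have hzT : ∀ b ∈ (T : Subgroup N), Commute (b : G) ((z : N) : G) := fun b hb =>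
      congrArg (fun v : (T : Subgroup N) => ((v : N) : G)) (mem_center_iff.1 hzc ⟨b, hb⟩)
    have hwk : ∃ k : ℕ, (w : G) ^ 2 ^ k = 1 := by
      obtain ⟨k, hk⟩ := exists_pow_two T.2 hwT
      exact ⟨k, congrArg Subtype.val hk⟩
    have hyz : Commute y ((z : N) : G) :=
      key _ _ w.2 (z : N).2 (fun e => hw1 (Subtype.ext e)) hwk hyw (hzT w hwT).symm
    have hz2 : orderOf ((z : N) : G) = 2 := by rw [Subgroup.orderOf_coe, Subgroup.orderOf_coe, hz]
    refine (T.3 hY2 fun b hb => (hmemY b).2 ?_).symm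
    exact (key _ _ (z : N).2 b.2 (Invol.ne_one hz2) (involution_pow hz2) hyz
      (hzT b hb)).symm
  obtain ⟨T, hT⟩ := hY2.exists_le_sylow
  have huT : (⟨u, hu⟩ : N) ∈ (T : Subgroup N) := hT ((hmemY _).2 hc.symm)
  have hTY := hsyl T ⟨u, hu⟩ huT (fun e => hu1 (congrArg Subtype.val e)) hc
  -- the Sylow subgroups are TI
  have hTI : SylowTI N := by
    intro S₁ S₂ hne
    by_contra hbot
    obtain ⟨c, hcS⟩ := MulAction.exists_smul_eq N S₁ T
    obtain ⟨w, hw, hw1⟩ := (bot_or_exists_ne_one _).resolve_left hbot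
    have hwT : c * w * c⁻¹ ∈ (T : Subgroup N) := by
      rw [← hcS, Sylow.coe_subgroup_smul]
      exact Subgroup.smul_mem_pointwise_smul w (MulAut.conj c) _ hw.1
    have hwT₂ : c * w * c⁻¹ ∈ ((c • S₂ : Sylow 2 N) : Subgroup N) := by
      rw [Sylow.coe_subgroup_smul]
      exact Subgroup.smul_mem_pointwise_smul w (MulAut.conj c) _ hw.2
    have h1 : Commute ((c * w * c⁻¹ : N) : G) y := (hmemY _).1 (hTY ▸ hwT)
    have h2 : c • S₂ = T := Sylow.ext ((hsyl (c • S₂) _ hwT₂
      (fun e => hw1 (conj_eq_one_iff.1 e)) h1.symm).trans hTY.symm)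
    exact hne (smul_left_cancel c (hcS.trans h2.symm))
  -- the normalizer of the Sylow subgroup is itself
  have hD := tiData hna hN hTI T
  obtain ⟨E, t, hE⟩ := exists_tiShape hD
  obtain ⟨a, ha, b, hb, ha2, hb2, hab⟩ := hD.two_involutions
  obtain ⟨e, he, -⟩ := hE.regular a ha b hb ha2 hb2
  refine hab ?_
  suffices he1 : (e : N) = 1 by rw [← he, he1]; group
  have hnorm : (e : N) ∈ normalizer ((T : Subgroup N) : Set N) := hE.le_normalizer e.2
  suffices (e : N) ∈ (T : Subgroup N) ⊓ E by rwa [hE.inf_eq, mem_bot] at this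
  refine ⟨?_, e.2⟩
  obtain ⟨g, hg⟩ : ∃ g : N, g = (e : N) := ⟨_, rfl⟩
  rw [← hg] at hnorm ⊢
  show g ∈ (T : Subgroup N)
  rw [hTY, hmemY]
  have hcy : ∀ v ∈ (T : Subgroup N), Commute y (v : G) := fun v hv => ((hmemY v).1 (hTY ▸ hv)).symm
  obtain ⟨z, hzT, hz2, hzc⟩ := hD.central
  have hz1 : (z : G) ≠ 1 := fun e => Invol.ne_one hz2 (Subtype.ext e)
  have hzk : ∃ k : ℕ, (z : G) ^ 2 ^ k = 1 := involution_pow (by rw [Subgroup.orderOf_coe, hz2])
  obtain ⟨y', hy'⟩ : ∃ y', y' = (g : G) * y * (g : G)⁻¹ := ⟨_, rfl⟩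
  have hy'z : Commute y' (z : G) := by
    have h1 := hcy _ ((mem_normalizer_iff''.1 hnorm z).1 hzT)
    push_cast at h1
    show y' * z = z * y'
    calc y' * (z : G) = (g : G) * (y * ((g : G)⁻¹ * z * g)) * (g : G)⁻¹ := by rw [hy']; group
      _ = (g : G) * (((g : G)⁻¹ * z * g) * y) * (g : G)⁻¹ := by rw [h1.eq]
      _ = z * y' := by rw [hy']; group
  obtain ⟨d, hd⟩ : ∃ d, d = y' * y⁻¹ := ⟨_, rfl⟩
  have hdN : d ∈ N := by
    rw [hd, hy', show (g : G) * y * (g : G)⁻¹ * y⁻¹ = (g : G) * (y * (g : G)⁻¹ * y⁻¹) by group]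
    exact mul_mem g.2 (hNn.conj_mem _ (inv_mem g.2) y)
  have hdz : Commute d (z : G) := by
    rw [hd]; exact hy'z.mul_left (hcy z hzT).inv_left
  obtain ⟨k, hk⟩ := two_of_commute hN z.2 hdN hz1 hzk hdz
  have hdy : Commute y d := key _ _ z.2 hdN hz1 hzk (hcy z hzT) hdz
  have hy'y : y' = d * y := by rw [hd, inv_mul_cancel_right]
  have hd1 : d = 1 := by
    have h1 : (d * y) ^ orderOf y = 1 := by
      rw [← hy'y, hy', conj_pow, pow_orderOf_eq_one, mul_one, mul_inv_cancel]
    rw [hdy.symm.mul_pow, pow_orderOf_eq_one, mul_one] at h1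
    exact orderOf_eq_one_iff.1 (Nat.eq_one_of_dvd_coprimes
      (Nat.Coprime.pow_left k (Nat.coprime_two_left.2 hyo)) (orderOf_dvd_of_pow_eq_one hk)
      (orderOf_dvd_of_pow_eq_one h1))
  rw [hd1, one_mul] at hy'y
  exact mul_inv_eq_iff_eq_mul.1 (hy'.symm.trans hy'y)

/-- A CN group with a simple normal subgroup is CIT. -/
theorem isCIT_of_simple_normal (hG : Cfsg.IsCNGroup G) [IsSimpleGroup N]
    (hna : ¬ IsMulCommutative N) : IsCIT G := by
  haveI : Fact (Nat.Prime 2) := ⟨Nat.prime_two⟩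
  intro t ht c
  obtain ⟨v, hv⟩ := exists_prime_orderOf_dvd_card' (G := N) 2 (two_dvd_card hna)
  have hts : IsPGroup 2 (zpowers t) := IsPGroup.of_card (n := 1) (by rw [Nat.card_zpowers, ht, pow_one])
  obtain ⟨S, hS⟩ := hts.exists_le_sylow
  have hvs : IsPGroup 2 (zpowers (v : G)) :=
    IsPGroup.of_card (n := 1) (by rw [Nat.card_zpowers, Subgroup.orderOf_coe, hv, pow_one])
  obtain ⟨S', hS'⟩ := hvs.exists_le_sylow
  obtain ⟨g, hg⟩ := MulAction.exists_smul_eq G S' S
  have hgv : g * v * g⁻¹ ∈ (S : Subgroup G) := by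
    rw [← hg, Sylow.coe_subgroup_smul]
    exact Subgroup.smul_mem_pointwise_smul (v : G) (MulAut.conj g) _ (hS' (mem_zpowers _))
  obtain ⟨u, huN, huc, hu⟩ := PGroup.exists_mem_center_orderOf_eq S.2
    (N := N.subgroupOf (S : Subgroup G)) (by
      intro h
      have h1 : (⟨_, hgv⟩ : (S : Subgroup G)) ∈ N.subgroupOf (S : Subgroup G) := hNn.conj_mem _ v.2 g
      rw [h, mem_bot] at h1
      have h2 : g * v * g⁻¹ = 1 := congrArg Subtype.val h1
      rw [Subtype.ext (conj_eq_one_iff.1 h2) (a2 := (1 : N)), orderOf_one] at hv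
      omega)
  have hu2 : orderOf (u : G) = 2 := by rw [Subgroup.orderOf_coe, hu]
  have htu : Commute t (u : G) := congrArg Subtype.val (mem_center_iff.1 huc ⟨t, hS (mem_zpowers t)⟩)
  obtain ⟨k, m, hm, hr⟩ := Nat.exists_eq_two_pow_mul_odd (n := orderOf (c : G)) (orderOf_pos _).ne'
  refine ⟨k, Subtype.ext ?_⟩
  show (c : G) ^ 2 ^ k = 1
  by_contra hne
  have ho : Odd (orderOf ((c : G) ^ 2 ^ k)) := by
    rw [orderOf_pow, hr, Nat.gcd_mul_right_left, Nat.mul_div_cancel_left _ (by positivity)]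
    exact hm
  have hcu : Commute (u : G) ((c : G) ^ 2 ^ k) :=
    commute_two_odd hG (Invol.ne_one ht) htu.symm
      ((show Commute (c : G) t from mem_centralizer_singleton_iff.1 c.2).pow_left _)
      (involution_pow hu2) ho
  exact not_commute_involution hG hna huN hu2 hne ho hcu.symm

end Cfsg.Lib.CIT.CNStruct
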