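import Cfsg.Agent.Lib.CIT.Consumers.Inputs

/-!
A CIT group with a simple normal subgroup with TI Sylow two-subgroups is that subgroup.
-/

set_option autoImplicit false
set_option linter.style.haveILetI false
set_option linter.unusedSectionVars false

namespace Cfsg.Lib.CIT.CNStruct

open Subgroup
open Cfsg.Lib
open scoped Pointwise

universe u

variable {X : Type u} [Group X] [Finite X]

/-- The argument of `QMod.simple_of_oddCore_bot`, without the module. -/
theorem eq_top_of_sylowTI (hX : IsCIT X) {N : Subgroup X} [hNn : N.Normal] [IsSimpleGroup N]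
    (hNna : ¬ IsMulCommutative N) (hNTI : SylowTI N) : N = ⊤ := by
  haveI : Fact (Nat.Prime 2) := ⟨Nat.prime_two⟩
  have hN : IsCIT N := hX.subgroup N
  by_contra hNtop
  obtain ⟨P⟩ : Nonempty (Sylow 2 N) := inferInstance
  have hD := tiData hNna hN hNTI P
  obtain ⟨E, t, hE⟩ := exists_tiShape hD
  set T := (P : Subgroup N).map N.subtype with hT
  obtain ⟨z, hzP, hz, hzc⟩ := hD.central
  -- the preimage of a coset is a two-element
  have hfrat := Sylow.normalizer_sup_eq_top P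
  have hpow : ∀ g : X, ∃ j, g ^ 2 ^ j ∈ N := by
    intro g
    obtain ⟨a, ha, m, hm, rfl⟩ := Subgroup.mem_sup_of_normal_right.mp
      (hfrat.symm ▸ Subgroup.mem_top g : g ∈ normalizer (T : Set X) ⊔ N)
    have hza : a * (z : X) * a⁻¹ ∈ T := (mem_normalizer_iff.mp ha _).mp ⟨z, hzP, rfl⟩
    obtain ⟨w, hwP, hw⟩ := hza
    have hw2 : orderOf w = 2 := by
      rw [← Subgroup.orderOf_coe w, show (w : X) = a * z * a⁻¹ from hw, Invol.orderOf_conj_eq,
        Subgroup.orderOf_coe, hz]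
    obtain ⟨e, he, -⟩ := hE.regular z hzP w hwP hz hw2
    set c := ((e : N) : X)⁻¹ * a
    have hc : c * z * c⁻¹ = z := by
      calc c * z * c⁻¹ = ((e : N) : X)⁻¹ * (a * z * a⁻¹) * ((e : N) : X) := by simp only [c]; group
        _ = z := by
          rw [← show (w : X) = a * z * a⁻¹ from hw, ← he]
          push_cast; group
    obtain ⟨j, hj⟩ := hX (z : X) (by rw [Subgroup.orderOf_coe, hz])
      ⟨c, mem_centralizer_singleton_iff.mpr (mul_inv_eq_iff_eq_mul.mp hc)⟩
    refine ⟨j, (QuotientGroup.eq_one_iff _).mp ?_⟩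
    rw [QuotientGroup.mk_pow, QuotientGroup.mk_mul, (QuotientGroup.eq_one_iff m).mpr hm, mul_one,
      show (a : X ⧸ N) = (c : X ⧸ N) by
        rw [show a = ((e : N) : X) * c by simp only [c]; group, QuotientGroup.mk_mul,
          (QuotientGroup.eq_one_iff ((e : N) : X)).mpr (e : N).2, one_mul],
      ← QuotientGroup.mk_pow]
    rw [show c ^ 2 ^ j = 1 from congrArg Subtype.val hj]
    rfl
  -- a prime element of the complement
  have hEcard : 2 ≤ Nat.card E := by
    obtain ⟨a, ha, b, hb, ha2, hb2, hab⟩ := hD.two_involutions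
    rw [hE.card_eq]
    haveI : Nontrivial {a : N // a ∈ (P : Subgroup N) ∧ orderOf a = 2} :=
      ⟨⟨⟨a, ha, ha2⟩, ⟨b, hb, hb2⟩, fun h => hab (congrArg Subtype.val h)⟩⟩
    exact Finite.one_lt_card
  obtain ⟨p, hp, hpE⟩ := Nat.exists_prime_and_dvd (show Nat.card E ≠ 1 by omega)
  haveI := Fact.mk hp
  have hEodd : ∀ e ∈ E, Odd (orderOf e) := by
    intro e he
    by_contra hev
    rw [Nat.not_odd_iff_even, even_iff_two_dvd] at hev
    have hoe : orderOf (e ^ (orderOf e / 2)) = 2 := by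
      rw [orderOf_pow, Nat.gcd_eq_right (Nat.div_dvd_of_dvd hev), Nat.div_div_self hev (orderOf_pos e).ne']
    -- a two-group normalizing `P` lies in it
    have hle : zpowers (e ^ (orderOf e / 2)) ≤ normalizer ((P : Subgroup N) : Set N) :=
      (zpowers_le.mpr (pow_mem he _)).trans hE.le_normalizer
    have hp2 : IsPGroup 2 ↥((P : Subgroup N) ⊔ zpowers (e ^ (orderOf e / 2))) :=
      IsPGroup.to_sup_of_normal_left' P.2 (IsPGroup.of_card (n := 1)
        (by rw [Nat.card_zpowers, hoe, pow_one])) hle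
    have hmem : e ^ (orderOf e / 2) ∈ (P : Subgroup N) ⊓ E :=
      ⟨(P.3 hp2 le_sup_left) ▸ mem_sup_right (mem_zpowers _), pow_mem he _⟩
    rw [hE.inf_eq, Subgroup.mem_bot] at hmem
    rw [hmem, orderOf_one] at hoe
    omega
  -- the normalizer of a Sylow subgroup of the complement
  set B := normalizer ((P : Subgroup N) : Set N) with hB
  have hcomm : ∀ a ∈ E, ∀ b ∈ E, a * b = b * a := fun a ha b hb =>
    congrArg Subtype.val (hE.comm.is_comm.comm ⟨a, ha⟩ ⟨b, hb⟩)
  obtain ⟨e₀, he₀⟩ := exists_prime_orderOf_dvd_card' (G := E) p hpE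
  obtain ⟨Q₀⟩ : Nonempty (Sylow p E) := inferInstance
  set Q := ((Q₀ : Subgroup E).map E.subtype).map N.subtype with hQ
  have hQne : ∃ q ∈ (Q₀ : Subgroup E).map E.subtype, q ≠ 1 := by
    have := (Q₀.ne_bot_of_dvd_card hpE)
    obtain ⟨q, hq, hq1⟩ := (Q₀ : Subgroup E).bot_or_exists_ne_one.resolve_left this
    exact ⟨q, ⟨q, hq, rfl⟩, fun e => hq1 (Subtype.ext e)⟩
  obtain ⟨q, hqQ, hq1⟩ := hQne
  have hqE : q ∈ E := map_subtype_le _ hqQ
  -- elements of `B` normalizing `Q` lie in `E`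
  have hBQ : ∀ b ∈ B, (b : X) ∈ normalizer (Q : Set X) → b ∈ E := by
    intro b hb hbQ
    rw [hB, ← hE.sup_eq, sup_comm] at hb
    obtain ⟨e, he, h, hh, rfl⟩ := (Core.mem_sup_of_le_normalizer hE.le_normalizer).mp hb
    have he' : ((e : N) : X) ∈ normalizer (Q : Set X) := by
      refine Core.le_normalizer_iff_conj_mem.mpr ?_ (mem_zpowers ((e : N) : X))
      intro g hg r hr
      obtain ⟨r', hr', rfl⟩ := hr
      obtain ⟨i, rfl⟩ := mem_zpowers_iff.mp hg
      refine ⟨r', hr', ?_⟩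
      have hc : e ^ i * r' * (e ^ i)⁻¹ = r' :=
        mul_inv_eq_iff_eq_mul.mpr (hcomm _ (zpow_mem he i) _ (map_subtype_le _ hr'))
      conv_lhs => rw [← hc]
      simp
    have hhQ : (h : X) ∈ normalizer (Q : Set X) := by
      have h' := mul_mem (inv_mem he') hbQ
      push_cast at h'
      simpa using h'
    obtain ⟨q', hq'Q, hq'⟩ := (mem_normalizer_iff.mp hhQ (q : X)).mp ⟨q, hqQ, rfl⟩
    have hq'N : q' = h * q * h⁻¹ := Subtype.ext (by simpa using hq')
    have hd : q' * q⁻¹ ∈ (P : Subgroup N) ⊓ E := by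
      refine Subgroup.mem_inf.mpr ⟨?_, mul_mem (map_subtype_le _ hq'Q) (inv_mem hqE)⟩
      rw [hq'N, show h * q * h⁻¹ * q⁻¹ = h * (q * h⁻¹ * q⁻¹) by group]
      exact mul_mem hh ((mem_normalizer_iff.mp (hE.le_normalizer hqE) _).mp (inv_mem hh))
    rw [hE.inf_eq, Subgroup.mem_bot, hq'N, mul_inv_eq_one, mul_inv_eq_iff_eq_mul] at hd
    rw [hN.fpf P.2 hq1 (hEodd q hqE) hh hd.symm, mul_one]
    exact he
  -- an involution outside `N` normalizing `T` and `Q`
  have hBn : normalizer (T : Set X) ≤ normalizer ((B.map N.subtype : Subgroup X) : Set X) := by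
    refine Core.le_normalizer_iff_conj_mem.mpr ?_
    rintro g hg _ ⟨b, hb, rfl⟩
    refine ⟨⟨_, hNn.conj_mem _ b.2 g⟩, mem_normalizer_iff.mpr fun v => ?_, rfl⟩
    have hmemT : ∀ w : N, w ∈ (P : Subgroup N) ↔ (w : X) ∈ T := fun w =>
      ⟨fun h => ⟨w, h, rfl⟩, fun ⟨w', hw', e⟩ => Subtype.ext e ▸ hw'⟩
    rw [hmemT, hmemT, mem_normalizer_iff''.mp hg (v : X)]
    have hg' := mem_normalizer_iff.mp hg
    have hb' : ∀ v : X, v ∈ N → (v ∈ T ↔ (b : X) * v * (b : X)⁻¹ ∈ T) := fun v hv => by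
      have := mem_normalizer_iff.mp hb ⟨v, hv⟩
      rwa [hmemT, hmemT] at this
    rw [hb' _ (by simpa using hNn.conj_mem _ v.2 g⁻¹), hg' _]
    push_cast
    rw [show g * ((b : X) * (g⁻¹ * (v : X) * g) * (b : X)⁻¹) * g⁻¹ =
      g * (b : X) * g⁻¹ * (v : X) * (g * (b : X) * g⁻¹)⁻¹ by group]
  have hfrat2 : ∀ g ∈ normalizer (T : Set X), ∃ b ∈ B, ((b : X) * g) ∈ normalizer (Q : Set X) := by
    intro g hg
    -- `Q` and its conjugate are Sylow subgroups of the normalizer of `P` in `N`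
    have hEB : E ≤ B := hE.le_normalizer
    set Q₁ := ((Q₀ : Subgroup E).map E.subtype).subgroupOf B with hQ₁
    have hQ₁p : IsPGroup p Q₁ := (Q₀.2.map _).comap_subtype
    have hidx : ¬ p ∣ Q₁.index := by
      have h1 := Q₁.card_mul_index
      rw [hQ₁, Nat.card_congr (Subgroup.subgroupOfEquivOfLe
        ((map_subtype_le _).trans hEB)).toEquiv, Core.card_map_subtype, ← hQ₁] at h1
      have h2 : Nat.card B = Nat.card (P : Subgroup N) * Nat.card E := by
        rw [hB, ← hE.sup_eq, card_sup_eq_mul_of_inf_bot hE.le_normalizer hE.inf_eq]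
      have h3 := (Q₀ : Subgroup E).card_mul_index
      rw [h2, ← h3, mul_left_comm] at h1
      have h4 : Q₁.index = Nat.card (P : Subgroup N) * (Q₀ : Subgroup E).index :=
        Nat.eq_of_mul_eq_mul_left Nat.card_pos h1
      rw [h4]
      intro hd
      rcases hp.dvd_mul.mp hd with hd | hd
      · obtain ⟨k, hk⟩ := IsPGroup.iff_card.mp P.2
        rw [hk] at hd
        have hp2 := (Nat.prime_dvd_prime_iff_eq hp Nat.prime_two).mp (hp.dvd_of_dvd_pow hd)
        have := hEodd e₀ e₀.2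
        rw [Subgroup.orderOf_coe, he₀, hp2] at this
        exact absurd this (by decide)
      · exact Q₀.not_dvd_index hd
    let R := hQ₁p.toSylow hidx
    have hgB : ∀ b : B, g * ((b : N) : X) * g⁻¹ ∈ B.map N.subtype := fun b =>
      (mem_normalizer_iff.mp (hBn hg) _).mp ⟨b, b.2, rfl⟩
    let σ : B →* B :=
      MonoidHom.mk' (fun b => ⟨⟨g * ((b : N) : X) * g⁻¹, hNn.conj_mem _ (b : N).2 g⟩, by
        obtain ⟨b', hb', e⟩ := hgB b
        exact (Subtype.ext e : b' = ⟨g * ((b : N) : X) * g⁻¹, _⟩) ▸ hb'⟩)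
        fun a b => Subtype.ext (Subtype.ext (by push_cast; group))
    have hσinj : Function.Injective σ := fun a b e => by
      have : g * ((a : N) : X) * g⁻¹ = g * ((b : N) : X) * g⁻¹ :=
        congrArg (fun w : B => ((w : N) : X)) e
      exact Subtype.ext (Subtype.ext (by simpa using this))
    have hσp : IsPGroup p ↥((R : Subgroup B).map σ) := R.2.map σ
    have hσidx : ¬ p ∣ ((R : Subgroup B).map σ).index := by
      rw [Subgroup.index_map_of_bijective ⟨hσinj, Finite.injective_iff_surjective.mp hσinj⟩]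
      exact hidx
    obtain ⟨c, hc⟩ := MulAction.exists_smul_eq B (hσp.toSylow hσidx) R
    refine ⟨c, c.2, Invol.mem_normalizer_of_map_le ?_⟩
    rintro _ ⟨_, ⟨r, hr, rfl⟩, rfl⟩
    have hrR : (⟨r, hEB (map_subtype_le _ hr)⟩ : B) ∈ (R : Subgroup B) := hr
    have hmem : c * σ ⟨r, hEB (map_subtype_le _ hr)⟩ * c⁻¹ ∈ (R : Subgroup B) := by
      rw [← hc]
      exact ⟨σ _, ⟨_, hrR, rfl⟩, rfl⟩
    refine ⟨((c * σ ⟨r, hEB (map_subtype_le _ hr)⟩ * c⁻¹ : B) : N), hmem, ?_⟩
    simp only [σ, MonoidHom.mk'_apply, MulEquiv.coe_toMonoidHom, MulAut.conj_apply, Subgroup.coe_subtype]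
    push_cast
    group
  obtain ⟨g, hg⟩ : ∃ g : X, g ∉ N := by
    by_contra h
    push Not at h
    exact hNtop (eq_top_iff.mpr fun g _ => h g)
  obtain ⟨a, ha, m, hm, rfl⟩ := Subgroup.mem_sup_of_normal_right.mp
    (hfrat.symm ▸ Subgroup.mem_top g : g ∈ normalizer (T : Set X) ⊔ N)
  obtain ⟨b, hb, hbQ⟩ := hfrat2 a ha
  set l := (b : X) * a with hl
  have hlT : l ∈ normalizer (T : Set X) := by
    refine mul_mem ?_ ha
    have hb' := Subgroup.le_normalizer_map N.subtype ⟨b, hb, rfl⟩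
    exact hb'
  have hlN : l ∉ N := fun h => hg (by
    rw [show a * m = (b : X)⁻¹ * l * m by rw [hl]; group]
    exact mul_mem (mul_mem (inv_mem b.2) h) hm)
  -- the involution
  obtain ⟨y, hyN, hy2, hyT, hyQ⟩ : ∃ y : X, y ∉ N ∧ orderOf y = 2 ∧
      y ∈ normalizer (T : Set X) ∧ y ∈ normalizer (Q : Set X) := by
    obtain ⟨i, r, hr, hir⟩ := Nat.exists_eq_two_pow_mul_odd (n := orderOf l) (orderOf_pos l).ne'
    set l₁ := l ^ r with hl₁
    have hl₁N : l₁ ∉ N := by
      intro h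
      obtain ⟨j, hj⟩ := hpow l
      have h1 : (l : X ⧸ N) ^ r = 1 := by rw [← QuotientGroup.mk_pow]; exact (QuotientGroup.eq_one_iff _).mpr h
      have h2 : (l : X ⧸ N) ^ 2 ^ j = 1 := by
        rw [← QuotientGroup.mk_pow]; exact (QuotientGroup.eq_one_iff _).mpr hj
      exact hlN ((QuotientGroup.eq_one_iff _).mp (orderOf_eq_one_iff.mp
        (Nat.eq_one_of_dvd_coprimes ((Nat.coprime_two_right.mpr hr).symm.pow_left j)
          (orderOf_dvd_of_pow_eq_one h2) (orderOf_dvd_of_pow_eq_one h1))))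
    have hex : ∃ j, l₁ ^ 2 ^ j ∈ N := hpow l₁
    classical
    obtain ⟨j, hj⟩ : ∃ j, Nat.find hex = j + 1 := ⟨Nat.find hex - 1, by
      have : Nat.find hex ≠ 0 := fun h0 => hl₁N (by simpa [h0] using Nat.find_spec hex)
      omega⟩
    have hmax : l₁ ^ 2 ^ j ∉ N := Nat.find_min hex (by omega)
    have hmem : l₁ ^ 2 ^ (j + 1) ∈ N := hj ▸ Nat.find_spec hex
    have hNT : l₁ ^ 2 ^ j ∈ normalizer (T : Set X) := pow_mem (pow_mem hlT _) _
    have hNQ : l₁ ^ 2 ^ j ∈ normalizer (Q : Set X) := pow_mem (pow_mem hbQ _) _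
    refine ⟨l₁ ^ 2 ^ j, hmax, ?_, hNT, hNQ⟩
    refine Invol.orderOf_eq_two_of (fun h => hmax (by rw [h]; exact one_mem N)) ?_
    have hsq : l₁ ^ 2 ^ j * l₁ ^ 2 ^ j = l₁ ^ 2 ^ (j + 1) := by rw [← pow_add, pow_succ, mul_two]
    rw [hsq]
    set w : N := ⟨_, hmem⟩ with hw
    have hwB : w ∈ B := by
      refine mem_normalizer_iff.mpr fun v => ?_
      have hmemT : ∀ w : N, w ∈ (P : Subgroup N) ↔ (w : X) ∈ T := fun w =>
        ⟨fun h => ⟨w, h, rfl⟩, fun ⟨w', hw', e⟩ => Subtype.ext e ▸ hw'⟩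
      rw [hmemT, hmemT]
      have := mem_normalizer_iff.mp (show l₁ ^ 2 ^ (j + 1) ∈ normalizer (T : Set X) from
        pow_mem (pow_mem hlT _) _) (v : X)
      simpa using this
    have hwE : w ∈ E := hBQ w hwB (pow_mem (pow_mem hbQ _) _)
    have h2pow : (w : N) ^ 2 ^ i = 1 := Subtype.ext (by
      push_cast
      rw [hw]
      show (l₁ ^ 2 ^ (j + 1)) ^ 2 ^ i = 1
      rw [← pow_mul, mul_comm, pow_mul, hl₁, ← pow_mul l r, mul_comm r, ← hir, pow_orderOf_eq_one, one_pow])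
    have := Nat.Coprime.eq_one_of_dvd ((Nat.coprime_two_right.mpr (hEodd w hwE)).pow_right i)
      (orderOf_dvd_of_pow_eq_one h2pow)
    exact congrArg Subtype.val (orderOf_eq_one_iff.mp this)
  -- it inverts the complement
  have hyE : ∀ e : N, e ∈ E → ∃ e' : N, e' ∈ E ∧ (e' : X) = y * (e : X) * y⁻¹ := by
    intro e he
    refine ⟨⟨_, hNn.conj_mem _ e.2 y⟩, hBQ _ ?_ ?_, rfl⟩
    · obtain ⟨b', hb', eb⟩ := (mem_normalizer_iff.mp (hBn hyT) _).mp ⟨e, hE.le_normalizer he, rfl⟩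
      exact (Subtype.ext eb : b' = ⟨y * (e : X) * y⁻¹, hNn.conj_mem _ e.2 y⟩) ▸ hb'
    · refine mul_mem (mul_mem hyQ ?_) (inv_mem hyQ)
      refine mem_normalizer_iff.mpr fun r => ?_
      constructor
      · rintro ⟨r', hr', rfl⟩
        refine ⟨r', hr', ?_⟩
        have hc : e * r' * e⁻¹ = r' :=
          mul_inv_eq_iff_eq_mul.mpr (hcomm _ he _ (map_subtype_le _ hr'))
        conv_lhs => rw [← hc]
        simp
      · rintro ⟨r', hr', hr⟩
        refine ⟨r', hr', ?_⟩
        have hc : e⁻¹ * r' * e = r' := by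
          rw [mul_assoc, ← hcomm _ he _ (map_subtype_le _ hr'), inv_mul_cancel_left]
        rw [← hc, map_mul, map_mul, map_inv, hr]
        simp only [Subgroup.coe_subtype]
        group
  have hinv : ∀ e : N, e ∈ E → y * (e : X) * y⁻¹ = (e : X)⁻¹ := by
    intro e he
    obtain ⟨e', he', hye⟩ := hyE e he
    have hfix : Commute y ((e : X) * (y * (e : X) * y⁻¹)) := by
      have hc : (e : X) * (e' : X) = (e' : X) * (e : X) := congrArg Subtype.val (hcomm e he e' he')
      show y * ((e : X) * (y * (e : X) * y⁻¹)) = (e : X) * (y * (e : X) * y⁻¹) * y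
      rw [← hye]
      conv_rhs => rw [hc, hye]
      rw [hye]
      calc y * ((e : X) * (y * (e : X) * y⁻¹)) = y * (e : X) * (y * (e : X)) * y⁻¹ := by group
        _ = _ := by rw [Invol.inv_eq_self hy2]; group
    have h1 : ((e * e' : N) : X) = 1 := eq_one_of_odd_two (hX y hy2)
      (mem_centralizer_singleton_iff.mpr (by push_cast; rw [hye]; exact hfix.eq.symm))
      (by rw [Subgroup.orderOf_coe]; exact hEodd _ (mul_mem he he'))
    push_cast at h1
    rw [hye] at h1
    exact eq_inv_of_mul_eq_one_right h1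
  have hqX : Odd (orderOf ((q : N) : X)) := by rw [Subgroup.orderOf_coe]; exact hEodd q hqE
  have hc : Commute ((q : N) : X) (y * (t : X)) := by
    have h1 := hinv q⁻¹ (inv_mem hqE)
    have h2 : (t : X) * (q : X) * (t : X)⁻¹ = ((q⁻¹ : N) : X) := congrArg Subtype.val (hE.inverts q hqE)
    have h3 : y * (t : X) * (q : X) * (y * (t : X))⁻¹ = (q : X) := by
      calc y * (t : X) * (q : X) * (y * (t : X))⁻¹ = y * ((t : X) * (q : X) * (t : X)⁻¹) * y⁻¹ := by group
        _ = (q : X) := by rw [h2, h1]; simp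
    exact (mul_inv_eq_iff_eq_mul.mp h3).symm
  have hodd : Odd (orderOf (y * (t : X))) := by
    by_contra hev
    rw [Nat.not_odd_iff_even, even_iff_two_dvd] at hev
    have ho : orderOf ((y * (t : X)) ^ (orderOf (y * (t : X)) / 2)) = 2 := by
      rw [orderOf_pow, Nat.gcd_eq_right (Nat.div_dvd_of_dvd hev), Nat.div_div_self hev (orderOf_pos _).ne']
    exact hq1 (Subtype.ext (eq_one_of_odd_two (hX _ ho)
      (mem_centralizer_singleton_iff.mpr (hc.pow_right _).eq) hqX))
  obtain ⟨j, hj⟩ := hpow (y * (t : X))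
  have hyt : y * (t : X) ∈ N := by
    have hcop : (2 ^ j).Coprime (orderOf (y * (t : X))) :=
      ((Nat.coprime_two_right.mpr hodd).symm).pow_left j
    have h1 : ((y * (t : X) : X) : X ⧸ N) ^ 2 ^ j = 1 := by
      rw [← QuotientGroup.mk_pow]; exact (QuotientGroup.eq_one_iff _).mpr hj
    exact (QuotientGroup.eq_one_iff _).mp (orderOf_eq_one_iff.mp
      (Nat.eq_one_of_dvd_coprimes hcop (orderOf_dvd_of_pow_eq_one h1)
        (orderOf_map_dvd (QuotientGroup.mk' N) _)))
  exact hyN (by simpa using mul_mem hyt (inv_mem t.2))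

end Cfsg.Lib.CIT.CNStruct
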