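import Cfsg.Agent.Lib.CIT.CNStruct.Radical
import Cfsg.Agent.Lib.CIT.CNStruct.Simple
import Cfsg.Agent.Lib.CIT.CNStruct.TI
import Cfsg.Agent.Lib.CIT.CNStruct.PSLTwo
import Cfsg.Agent.Lib.CIT.CNStruct.PSLThreeFour

/-!
The structure of non-solvable CN groups.
-/

set_option autoImplicit false
set_option linter.style.haveILetI false
set_option linter.unusedSectionVars false

namespace Cfsg.Lib.CIT.CNStruct

open Subgroup
open Cfsg.Lib

universe u

variable {G : Type u} [Group G] [Finite G]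

theorem not_dihedral_of_even {X : Type*} [Group X] [Finite X] {K : Type} [Field K] [Fintype K]
    (e : X ≃* Matrix.ProjectiveSpecialLinearGroup (Fin 2) K) {n : ℕ} (hK : Fintype.card K = 2 ^ n)
    (hd : ∀ S : Sylow 2 X, ∃ k : ℕ, 2 ≤ k ∧ Nonempty ((S : Subgroup X) ≃* DihedralGroup (2 ^ k))) :
    False := by
  haveI : Fact (Nat.Prime 2) := ⟨Nat.prime_two⟩
  obtain ⟨p, hp, hpc, m, hm0, hm⟩ := Dickson.exists_char (F := K)
  haveI := hpc
  have hp2 : p = 2 := (Nat.prime_dvd_prime_iff_eq hp Nat.prime_two).1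
    (hp.dvd_of_dvd_pow (hK ▸ hm ▸ dvd_pow_self p hm0.ne'))
  subst hp2
  obtain ⟨S⟩ : Nonempty (Sylow 2 X) := inferInstance
  obtain ⟨k, hk, ⟨f⟩⟩ := hd S
  obtain ⟨P, hP⟩ := (S.2.map e.toMonoidHom).exists_le_sylow
  have hab : ∀ a ∈ (S : Subgroup X), ∀ b ∈ (S : Subgroup X), a * b = b * a := by
    intro a ha b hb
    by_cases ha1 : a = 1
    · rw [ha1, one_mul, mul_one]
    apply e.injective
    have h := Dickson.centralizer_eq_sylow 2 P (hP ⟨a, ha, rfl⟩)
      (fun h => ha1 ((MulEquiv.map_eq_one_iff e).1 h))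
    have h2 : e b ∈ centralizer ({e a} : Set (Matrix.ProjectiveSpecialLinearGroup (Fin 2) K)) := by
      change e b ∈ centralizer ({e.toMonoidHom a} : Set _)
      rw [h]
      exact hP ⟨b, hb, rfl⟩
    rw [map_mul, map_mul, mem_centralizer_singleton_iff.1 h2]
  have h4 : 4 ≤ 2 ^ k := le_trans (by norm_num) (Nat.pow_le_pow_right two_pos hk)
  have h := congrArg f (Subtype.ext (hab _ (f.symm (DihedralGroup.r 1)).2 _
    (f.symm (DihedralGroup.sr 0)).2) :
    f.symm (DihedralGroup.r 1) * f.symm (DihedralGroup.sr 0) =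
      f.symm (DihedralGroup.sr 0) * f.symm (DihedralGroup.r 1))
  rw [map_mul, map_mul, MulEquiv.apply_symm_apply, MulEquiv.apply_symm_apply, DihedralGroup.r_mul_sr,
    DihedralGroup.sr_mul_r, DihedralGroup.sr.injEq] at h
  have h2 : ((2 : ℕ) : ZMod (2 ^ k)) = 0 := by push_cast; linear_combination -h
  rw [ZMod.natCast_eq_zero_iff] at h2
  have := Nat.le_of_dvd two_pos h2
  omega

theorem not_dihedral_five {X : Type*} [Group X] [Finite X] (h60 : Nat.card X = 60)
    (hd : ∀ S : Sylow 2 X, ∃ k : ℕ, 2 ≤ k ∧ Nonempty ((S : Subgroup X) ≃* DihedralGroup (2 ^ k))) :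
    False := by
  obtain ⟨S⟩ : Nonempty (Sylow 2 X) := inferInstance
  obtain ⟨k, hk, ⟨f⟩⟩ := hd S
  have h1 : Nat.card (S : Subgroup X) ∣ 60 := h60 ▸ Subgroup.card_subgroup_dvd_card _
  rw [Nat.card_congr f.toEquiv, DihedralGroup.nat_card] at h1
  have h8 : 8 ∣ 60 := (show 8 ∣ 2 * 2 ^ k from by
    rw [← pow_succ']; exact pow_dvd_pow 2 (show 3 ≤ k + 1 by omega)).trans h1
  norm_num at h8

/-- The structure theorem. -/
theorem structure_theorem (hns : ¬ Group.IsSolvable G) (hG : Cfsg.IsCNGroup G) :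
    (IsSimpleGroup G ∧ ¬ IsMulCommutative G) ∨
    (∃ (N : Subgroup G), N.Normal ∧ N.index = 2 ∧ ∃ (F : Type) (_ : Field F) (_ : Fintype F),
      Fintype.card F = 9 ∧ Nonempty (N ≃* Matrix.ProjectiveSpecialLinearGroup (Fin 2) F)) ∨
    ThirdCase G := by
  by_cases hQ : Cfsg.pCore 2 G = ⊥
  swap
  · exact Or.inr (Or.inr (thirdCase hG hns hQ))
  obtain ⟨N, hNn, hNs, hna, -⟩ := exists_simple_normal hG hns hQ
  haveI := hNn
  haveI := hNs
  have hcit := isCIT_of_simple_normal hG hna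
  have first : N = ⊤ → (IsSimpleGroup G ∧ ¬ IsMulCommutative G) := fun h => by
    subst h
    exact ⟨Subgroup.topEquiv.symm.isSimpleGroup,
      fun hc => hna ⟨⟨fun a b => Subtype.ext (hc.is_comm.comm _ _)⟩⟩⟩
  by_cases hTI : SylowTI N
  · exact Or.inl (first (eq_top_of_sylowTI hcit hna hTI))
  have hN : IsCIT N := hcit.subgroup N
  rcases trichotomy (ffHolds tiHolds) (Nat.card N + 1) N hna hN (Nat.lt_succ_self _) with h | h | h
  · exact absurd h hTI
  · obtain ⟨F, i, j, ⟨e⟩⟩ := psl_of_dihedral hna hN h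
    have h4 := four_le_of_iso hna e
    rcases psl_list hna hN e with h9 | ⟨n, hn⟩ | ⟨hp, hk⟩
    · rcases index_le_two_of_psl_nine hcit e h9 with h1 | h2
      · exact Or.inl (first (Subgroup.index_eq_one.1 h1))
      · exact Or.inr (Or.inl ⟨N, hNn, h2, F, i, j, h9, ⟨e⟩⟩)
    · exact (not_dihedral_of_even e hn h).elim
    · by_cases h7 : 7 ≤ Fintype.card F
      · exact Or.inl (first (eq_top_of_psl_prime hcit e hp h7 hk))
      · exfalso
        have h5 : Fintype.card F = 5 := by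
          rcases (show Fintype.card F = 4 ∨ Fintype.card F = 5 ∨ Fintype.card F = 6 by omega) with h | h | h
          · rw [h] at hp; norm_num at hp
          · exact h
          · rw [h] at hp; norm_num at hp
        refine not_dihedral_five ?_ h
        have hc := Cfsg.Lib.Linear.Two.card_PSL_two (F := F)
        rw [h5] at hc
        rw [Nat.card_congr e.toEquiv]
        exact Nat.eq_of_mul_eq_mul_left two_pos (hc.trans (by norm_num))
  · exact Or.inl (first (eq_top_of_psl_three_four hcit h))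

end Cfsg.Lib.CIT.CNStruct
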