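import Cfsg.Agent.Lib.CIT.Basic
import Cfsg.Agent.Lib.Local.Baumann.Setup

/-!
The index of a normal subgroup of a CIT group, bounded by an involution inverting a subgroup of odd order.
-/

set_option autoImplicit false
set_option linter.style.haveILetI false
set_option linter.unusedSectionVars false

namespace Cfsg.Lib.CIT.CNStruct

open Subgroup
open Cfsg.Lib

universe u

variable {G : Type u} [Group G] [Finite G] {N : Subgroup G} [hNn : N.Normal]

/-- An involution of `N` inverting a subgroup of odd order whose conjugates are conjugate in `N`. -/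
theorem index_mul_le (hG : IsCIT G) {A : Subgroup G} (hA1 : A ≠ ⊥)
    (hodd : ∀ a ∈ A, Odd (orderOf a)) {z : G} (hzN : z ∈ N) (hz : orderOf z = 2)
    (hinv : ∀ a ∈ A, z * a * z⁻¹ = a⁻¹)
    (hfrat : ∀ g : G, ∃ n ∈ N, n * g ∈ normalizer (A : Set G)) :
    N.index * Nat.card ↥(N ⊓ (centralizer ({z} : Set G) ⊓ normalizer (A : Set G))) + 1 ≤ Nat.card A := by
  classical
  obtain ⟨a₀, ha₀, ha₀1⟩ := (bot_or_exists_ne_one A).resolve_left hA1
  set K := centralizer ({z} : Set G) ⊓ normalizer (A : Set G) with hK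
  set C := centralizer (A : Set G) with hC
  have hzz : z * z = 1 := Invol.inv_mul_self hz
  have hzi : z⁻¹ = z := inv_eq_self_of_two hz
  have hCodd : ∀ c ∈ C, Odd (orderOf c) := by
    intro c hc
    by_contra hev
    rw [Nat.not_odd_iff_even, even_iff_two_dvd] at hev
    have ho : orderOf (c ^ (orderOf c / 2)) = 2 := orderOf_pow_orderOf_div (orderOf_pos c).ne' hev
    exact ha₀1 (eq_one_of_odd_two (hG _ ho) (mem_centralizer_singleton_iff.2
      ((show Commute a₀ c from mem_centralizer_iff.1 hc a₀ ha₀).pow_right _).eq) (hodd a₀ ha₀))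
  have hzC : ∀ c ∈ C, z * c * z⁻¹ ∈ C := by
    intro c hc
    refine mem_centralizer_iff.2 fun a ha => ?_
    have h1 := mem_centralizer_iff.1 hc _ (inv_mem ha)
    have h2 : a = z * a⁻¹ * z⁻¹ := by rw [hinv _ (inv_mem ha), inv_inv]
    calc a * (z * c * z⁻¹) = (z * a⁻¹ * z⁻¹) * (z * c * z⁻¹) := by rw [← h2]
      _ = z * (a⁻¹ * c) * z⁻¹ := by group
      _ = (z * c * z⁻¹) * (z * a⁻¹ * z⁻¹) := by rw [h1]; group
      _ = (z * c * z⁻¹) * a := by rw [← h2]
  have hsurj : ∀ c ∈ C, ∃ d ∈ C, d⁻¹ * (z * d * z⁻¹) = c := by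
    intro c hc
    let f : C → C := fun d => ⟨(d : G)⁻¹ * (z * d * z⁻¹), mul_mem (inv_mem d.2) (hzC d d.2)⟩
    have hinj : Function.Injective f := by
      intro a b e
      have e' : (a : G)⁻¹ * (z * a * z⁻¹) = (b : G)⁻¹ * (z * b * z⁻¹) := congrArg Subtype.val e
      have hfix : z * ((b : G) * (a : G)⁻¹) * z⁻¹ = (b : G) * (a : G)⁻¹ := by
        calc z * ((b : G) * (a : G)⁻¹) * z⁻¹
            = (b : G) * ((b : G)⁻¹ * (z * b * z⁻¹)) * ((a : G)⁻¹ * (z * a * z⁻¹))⁻¹ * (a : G)⁻¹ := by group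
          _ = (b : G) * (a : G)⁻¹ := by rw [← e', mul_inv_cancel_right]
      have := eq_one_of_odd_two (hG z hz) (mem_centralizer_singleton_iff.2
        (mul_inv_eq_iff_eq_mul.1 hfix).symm) (hCodd _ (mul_mem b.2 (inv_mem a.2)))
      exact Subtype.ext (mul_inv_eq_one.1 this).symm
    obtain ⟨d, hd⟩ := (Finite.injective_iff_surjective.1 hinj) ⟨c, hc⟩
    exact ⟨d, d.2, congrArg Subtype.val hd⟩
  have hsup : N ⊔ K = ⊤ := by
    refine eq_top_iff.2 fun g _ => ?_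
    obtain ⟨n, hn, hg⟩ := hfrat g
    obtain ⟨g₀, hg₀⟩ : ∃ g₀, g₀ = n * g := ⟨_, rfl⟩
    rw [← hg₀] at hg
    have hcC : g₀ * z * g₀⁻¹ * z⁻¹ ∈ C := by
      refine mem_centralizer_iff.2 fun a ha => ?_
      have h1 := hinv _ ((mem_normalizer_iff''.1 hg a).1 ha)
      have h2 : z⁻¹ * a * z = a⁻¹ := by
        have := hinv a ha; rw [hzi] at this ⊢; exact this
      have h3 : g₀ * z * g₀⁻¹ * z⁻¹ * a * (g₀ * z * g₀⁻¹ * z⁻¹)⁻¹ = a := by
        calc g₀ * z * g₀⁻¹ * z⁻¹ * a * (g₀ * z * g₀⁻¹ * z⁻¹)⁻¹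
            = g₀ * z * g₀⁻¹ * (z⁻¹ * a * z) * g₀ * z⁻¹ * g₀⁻¹ := by group
          _ = g₀ * (z * (g₀⁻¹ * a * g₀)⁻¹ * z⁻¹) * g₀⁻¹ := by rw [h2]; group
          _ = g₀ * (z * (g₀⁻¹ * a * g₀) * z⁻¹)⁻¹ * g₀⁻¹ := by group
          _ = a := by rw [h1]; group
      exact (mul_inv_eq_iff_eq_mul.1 h3).symm
    obtain ⟨d, hd, hdc⟩ := hsurj _ hcC
    have hdK : d * g₀ ∈ K := by
      refine ⟨mem_centralizer_singleton_iff.2 ?_, mul_mem (centralizer_le_normalizer _ hd) hg⟩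
      calc d * g₀ * z = d * (g₀ * z * g₀⁻¹ * z⁻¹) * (z * g₀) := by group
        _ = z * d * (z⁻¹ * z * g₀) := by rw [← hdc]; group
        _ = z * (d * g₀) := by group
    have hdN : d ∈ N := by
      obtain ⟨d', hd', hdc'⟩ := hsurj _ hd
      rw [← hdc', ← mul_assoc, ← mul_assoc]
      exact mul_mem (by simpa using hNn.conj_mem _ hzN d'⁻¹) (inv_mem hzN)
    rw [show g = (n⁻¹ * d⁻¹) * (d * g₀) by rw [hg₀]; group]
    exact mul_mem_sup (mul_mem (inv_mem hn) (inv_mem hdN)) hdK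
  have hcard : N.index * Nat.card ↥(N ⊓ K) = Nat.card K := by
    have h1 := Local.Baumann.card_sup_mul_inf (A := N) (B := K)
      (by rw [normalizer_eq_top_iff.2 (inferInstance : N.Normal)]; exact le_top)
    rw [hsup, Subgroup.card_top, ← N.card_mul_index, mul_assoc] at h1
    exact Nat.eq_of_mul_eq_mul_left Nat.card_pos h1
  rw [hcard]
  -- `K` acts freely on the non-identity elements of `A`
  have hKA : ∀ k ∈ K, k * a₀ * k⁻¹ ∈ A := fun k hk => (mem_normalizer_iff.1 hk.2 a₀).1 ha₀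
  rw [← Finite.card_option]
  refine Nat.card_le_card_of_injective
    (fun o : Option K => o.elim (1 : A) fun k => ⟨(k : G) * a₀ * (k : G)⁻¹, hKA k k.2⟩) ?_
  have hne : ∀ k : G, k * a₀ * k⁻¹ ≠ 1 := fun k e => ha₀1 (conj_eq_one_iff.1 e)
  rintro (_ | k) (_ | k') e
  · rfl
  · exact absurd (congrArg Subtype.val e).symm (hne k')
  · exact absurd (congrArg Subtype.val e) (hne k)
  · have e' : (k : G) * a₀ * (k : G)⁻¹ = (k' : G) * a₀ * (k' : G)⁻¹ := congrArg Subtype.val e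
    refine congrArg some (Subtype.ext (inv_mul_eq_one.1 ?_))
    have hc : Commute a₀ ((k : G)⁻¹ * (k' : G)) := by
      show a₀ * ((k : G)⁻¹ * k') = (k : G)⁻¹ * k' * a₀
      calc a₀ * ((k : G)⁻¹ * k') = (k : G)⁻¹ * ((k : G) * a₀ * (k : G)⁻¹) * k' := by group
        _ = (k : G)⁻¹ * k' * a₀ := by rw [e']; group
    exact hG.fpf (hG z hz) ha₀1 (hodd a₀ ha₀) (mul_mem (inv_mem k.2.1) k'.2.1) hc

/-- The bound, computed in a model of `N`. -/
theorem index_le_of_model (hG : IsCIT G) {X : Type*} [Group X] (e : N ≃* X) {A₀ : Subgroup X}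
    (hA1 : A₀ ≠ ⊥) (hodd : ∀ a ∈ A₀, Odd (orderOf a)) {z₀ : X} (hz : orderOf z₀ = 2)
    (hinv : ∀ a ∈ A₀, z₀ * a * z₀⁻¹ = a⁻¹)
    (hconj : ∀ B : Subgroup X, Nat.card B = Nat.card A₀ →
      ∃ n : X, B.map (MulAut.conj n).toMonoidHom = A₀)
    (l : Finset X) (hl : ∀ s ∈ l, Commute s z₀ ∧ s ∈ normalizer (A₀ : Set X)) :
    N.index * l.card + 1 ≤ Nat.card A₀ := by
  classical
  let ι : X →* G := N.subtype.comp e.symm.toMonoidHom
  have hι : Function.Injective ι := N.subtype_injective.comp e.symm.injective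
  have hιN : ∀ x, ι x ∈ N := fun x => (e.symm x).2
  set A := A₀.map ι with hA
  have hnorm : ∀ s ∈ normalizer (A₀ : Set X), ι s ∈ normalizer (A : Set G) := fun s hs => by
    refine Invol.mem_normalizer_of_map_le ?_
    rintro _ ⟨_, ⟨a, ha, rfl⟩, rfl⟩
    exact ⟨s * a * s⁻¹, (mem_normalizer_iff.1 hs a).1 ha, by simp⟩
  have h := index_mul_le hG (N := N) (A := A) (z := ι z₀)
    (fun e => hA1 ((Subgroup.map_eq_bot_iff_of_injective _ hι).1 e))
    (by rintro _ ⟨a, ha, rfl⟩; rw [orderOf_injective ι hι]; exact hodd a ha)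
    (hιN z₀) (by rw [orderOf_injective ι hι]; exact hz)
    (by rintro _ ⟨a, ha, rfl⟩; rw [← map_inv, ← map_mul, ← map_mul, hinv a ha, map_inv])
    (fun g => by
      obtain ⟨φ, hφ⟩ : ∃ φ : X ≃* X, φ = e.symm.trans ((MulAut.conjNormal g).trans e) := ⟨_, rfl⟩
      have hφι : ∀ x, ι (φ x) = g * ι x * g⁻¹ := fun x => by
        rw [hφ]
        show ((e.symm (e ((MulAut.conjNormal g) (e.symm x))) : N) : G) = _
        rw [MulEquiv.symm_apply_apply, MulAut.conjNormal_apply]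
        rfl
      obtain ⟨n, hn⟩ := hconj (A₀.map φ.toMonoidHom) (Subgroup.card_map_of_injective φ.injective)
      refine ⟨ι n, hιN n, Invol.mem_normalizer_of_map_le ?_⟩
      rintro _ ⟨_, ⟨a, ha, rfl⟩, rfl⟩
      refine ⟨n * φ a * n⁻¹, hn ▸ ⟨φ a, ⟨a, ha, rfl⟩, rfl⟩, ?_⟩
      rw [map_mul, map_mul, map_inv, hφι]
      simp only [MulEquiv.coe_toMonoidHom, MulAut.conj_apply]
      group)
  rw [Subgroup.card_map_of_injective hι] at h
  refine le_trans (Nat.add_le_add_right (Nat.mul_le_mul_left _ ?_) 1) h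
  rw [← Fintype.card_coe, ← Nat.card_eq_fintype_card]
  refine Nat.card_le_card_of_injective (fun s => ⟨ι s.1, hιN _,
    mem_centralizer_singleton_iff.2 (((hl _ s.2).1.map ι).eq), hnorm _ (hl _ s.2).2⟩) fun a b hab => ?_
  have h' := congrArg Subtype.val hab
  exact Subtype.ext (hι h')

end Cfsg.Lib.CIT.CNStruct
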