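import Cfsg.Agent.Lib.CIT.CNStruct.Basic
import Cfsg.Agent.Lib.CIT.Consumers.Inputs
import Cfsg.Agent.Lib.CIT.Consumers.FrobSystem
import Cfsg.Agent.Lib.CIT.Rad2.Radical
import Cfsg.Agent.Lib.CIT.Rad2.SLGood
import Cfsg.Agent.Lib.CIT.Rad2.SzGood
import Cfsg.Agent.S0252
import Cfsg.Agent.S0253

/-!
Non-solvable CN groups with a nontrivial normal two-subgroup.
-/

set_option autoImplicit false
set_option linter.style.haveILetI false
set_option linter.unusedSectionVars false

namespace Cfsg.Lib.CIT.CNStruct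

open Subgroup
open Cfsg.Lib

universe u

variable {G : Type u} [Group G] [Finite G]

theorem freeOn_pCore (hG : Cfsg.IsCNGroup G) (hns : ¬ Group.IsSolvable G) :
    Rad2.FreeOn (Cfsg.pCore 2 G) := by
  haveI : Fact (Nat.Prime 2) := ⟨Nat.prime_two⟩
  rintro y ⟨p, hp, hp2, hy⟩ r hr hc
  by_contra hr1
  set Q := Cfsg.pCore 2 G
  haveI : Nontrivial Q := ⟨⟨⟨r, hr⟩, 1, fun e => hr1 (congrArg Subtype.val e)⟩⟩
  have hQ2 : IsPGroup 2 Q := Core.pCore_isPGroup 2 G
  haveI := hQ2.center_nontrivial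
  set Z := (center Q).map Q.subtype with hZ
  haveI : Z.Normal := Core.normal_map_char_of_normal _
  have hZ1 : Z ≠ ⊥ := fun e => by
    rw [hZ, Subgroup.map_eq_bot_iff_of_injective _ Q.subtype_injective] at e
    exact (nontrivial_iff_ne_bot _).1 inferInstance e
  have hyo : Odd (orderOf y) := hy ▸ hp.odd_of_ne_two hp2
  have hyC : y ∈ centralizer (Z : Set G) := mem_centralizer_iff.2 fun z hz => by
    obtain ⟨w, hw, rfl⟩ := hz
    exact (commute_two_odd hG hr1 (congrArg Subtype.val (mem_center_iff.1 hw ⟨r, hr⟩)).symm hc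
      (exists_pow_two hQ2 w.2) hyo).eq
  haveI : (centralizer (Z : Set G)).Normal := inferInstance
  have h1 := eq_one_of_odd_two hQ2
    (solvable_normal_le hG hns _ (isSolvable_of_isNilpotent (centralizer_nilpotent hG hZ1)) hyC) hyo
  rw [h1, orderOf_one] at hy
  exact hp.ne_one hy.symm

theorem isCIT_of_pCore (hG : Cfsg.IsCNGroup G) (hns : ¬ Group.IsSolvable G)
    (hQ : Cfsg.pCore 2 G ≠ ⊥) : IsCIT G := by
  haveI : Fact (Nat.Prime 2) := ⟨Nat.prime_two⟩
  intro t ht
  set Q := Cfsg.pCore 2 G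
  have hQ2 : IsPGroup 2 Q := Core.pCore_isPGroup 2 G
  have hts : IsPGroup 2 (zpowers t) := IsPGroup.of_card (n := 1) (by rw [Nat.card_zpowers, ht, pow_one])
  obtain ⟨S, hS⟩ := hts.exists_le_sylow
  have hle : Q ≤ (S : Subgroup G) := Core.pCore_le_sylow S
  obtain ⟨u, huQ, huc, hu⟩ := PGroup.exists_mem_center_orderOf_eq S.2
    (N := Q.subgroupOf (S : Subgroup G)) (by
      rw [Ne, subgroupOf_eq_bot, disjoint_iff, inf_of_le_left hle]; exact hQ)
  have hu1 : (u : G) ≠ 1 := fun e => by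
    rw [show u = 1 from Subtype.ext e, orderOf_one] at hu; omega
  have htu : Commute (u : G) t :=
    (congrArg Subtype.val (mem_center_iff.1 huc ⟨t, hS (mem_zpowers t)⟩) : t * (u : G) = u * t).symm
  intro c
  obtain ⟨k, m, hm, hr⟩ := Nat.exists_eq_two_pow_mul_odd (n := orderOf (c : G)) (orderOf_pos _).ne'
  refine ⟨k, Subtype.ext ?_⟩
  show (c : G) ^ 2 ^ k = 1
  by_contra hne
  have ho : Odd (orderOf ((c : G) ^ 2 ^ k)) := by
    rw [orderOf_pow, hr, Nat.gcd_mul_right_left, Nat.mul_div_cancel_left _ (by positivity)]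
    exact hm
  have hcu : Commute (u : G) ((c : G) ^ 2 ^ k) :=
    commute_two_odd hG (Invol.ne_one ht) htu ((show Commute (c : G) t from mem_centralizer_singleton_iff.1 c.2).pow_left _)
      (exists_pow_two hQ2 huQ) ho
  exact hu1 ((freeOn_pCore hG hns).odd hne ho huQ hcu.symm.eq)

/-- The quotient by the largest normal two-subgroup. -/
theorem quotient_simple (hG : Cfsg.IsCNGroup G) (hns : ¬ Group.IsSolvable G)
    (hQ : Cfsg.pCore 2 G ≠ ⊥) :
    IsSimpleGroup (G ⧸ Cfsg.pCore 2 G) ∧ ¬ IsMulCommutative (G ⧸ Cfsg.pCore 2 G) ∧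
      IsCIT (G ⧸ Cfsg.pCore 2 G) ∧ SylowTI (G ⧸ Cfsg.pCore 2 G) := by
  haveI : Fact (Nat.Prime 2) := ⟨Nat.prime_two⟩
  set Q := Cfsg.pCore 2 G with hQdef
  have hQ2 : IsPGroup 2 Q := Core.pCore_isPGroup 2 G
  haveI := hQ2.isNilpotent
  have hQs : Group.IsSolvable Q := inferInstance
  obtain ⟨E, hE, hEQ⟩ := Core.exists_isMinNormal (inferInstance : Q.Normal) hQ
  haveI := hE.1
  obtain ⟨hEc, p, hp, hpow, hEp⟩ := Core.minimal_solvable_elementary hE (Core.isSolvable_of_le hEQ hQs)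
  obtain ⟨e₀, he₀, he₀1⟩ := (bot_or_exists_ne_one E).resolve_left hE.2.1
  have hp2 : p = 2 := by
    obtain ⟨k, hk⟩ := exists_pow_two hQ2 (hEQ he₀)
    have h1 : orderOf e₀ = p := by
      haveI := Fact.mk hp
      exact orderOf_eq_prime (hpow e₀ he₀) he₀1
    exact (Nat.prime_dvd_prime_iff_eq hp Nat.prime_two).1
      (hp.dvd_of_dvd_pow (h1 ▸ orderOf_dvd_of_pow_eq_one hk))
  subst hp2
  -- `E` is central in `Q`
  have hEZ : ∀ r ∈ Q, ∀ e ∈ E, r * e = e * r := by
    haveI : (E.subgroupOf Q).Normal := inferInstance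
    obtain ⟨w, hwE, hwc, hw⟩ := PGroup.exists_mem_center_orderOf_eq hQ2 (N := E.subgroupOf Q) (by
      rw [Ne, subgroupOf_eq_bot, disjoint_iff, inf_of_le_left hEQ]; exact hE.2.1)
    haveI : (centralizer (Q : Set G)).Normal := inferInstance
    rcases hE.inf_eq_bot_or_le (centralizer (Q : Set G)) with h | h
    · have hmem : (w : G) ∈ E ⊓ centralizer (Q : Set G) := ⟨hwE, mem_centralizer_iff.2 fun r hr =>
        congrArg Subtype.val (mem_center_iff.1 hwc ⟨r, hr⟩)⟩
      rw [h, mem_bot] at hmem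
      rw [show w = 1 from Subtype.ext hmem, orderOf_one] at hw
      omega
    · exact fun r hr e he => mem_centralizer_iff.1 (h he) r hr
  let ψ : G →* MulAut E := MulAut.conjNormal
  have hψ : ∀ g, ψ g = 1 ↔ g ∈ centralizer (E : Set G) := by
    intro g
    constructor
    · intro h
      refine mem_centralizer_iff.2 fun e he => ?_
      have h1 := congrArg Subtype.val (congrArg (fun σ : MulAut E => σ ⟨e, he⟩) h)
      rw [MulAut.conjNormal_apply] at h1
      exact (mul_inv_eq_iff_eq_mul.1 h1).symm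
    · intro h
      refine MulEquiv.ext fun e => Subtype.ext ?_
      rw [MulAut.conjNormal_apply, ← mem_centralizer_iff.1 h e e.2, mul_inv_cancel_right]
      rfl
  let ρ : G ⧸ Q →* MulAut E := QuotientGroup.lift Q ψ fun r hr =>
    MonoidHom.mem_ker.2 ((hψ r).2 (mem_centralizer_iff.2 fun e he => (hEZ r hr e he).symm))
  haveI : (centralizer (E : Set G)).Normal := inferInstance
  have hCQ : centralizer (E : Set G) ≤ Q :=
    solvable_normal_le hG hns _ (isSolvable_of_isNilpotent (centralizer_nilpotent hG hE.2.1))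
  have hfree := freeOn_pCore hG hns
  have hX : QMod ρ := by
    refine ⟨(isCIT_of_pCore hG hns hQ).quotient Q hQ2, ?_, fun v w => hEc.is_comm.comm v w,
      fun v => Subtype.ext ?_, (nontrivial_iff_ne_bot E).2 hE.2.1, ?_, ?_⟩
    · refine (injective_iff_map_eq_one ρ).2 fun x hx => ?_
      obtain ⟨g, rfl⟩ := QuotientGroup.mk'_surjective Q x
      exact (QuotientGroup.eq_one_iff g).2 (hCQ ((hψ g).1 hx))
    · show (v : G) * v = 1
      rw [← pow_two]; exact hpow v v.2
    · intro x hx ho v hv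
      obtain ⟨y, hy1, hyo, k, hk⟩ :=
        Rad2.exists_odd_lift (QuotientGroup.mk' Q) (QuotientGroup.mk'_surjective Q) hx ho
      have hpw : ∀ j : ℕ, ρ (x ^ j) v = v := fun j => by
        induction j with
        | zero => simp
        | succ j ih => rw [pow_succ, map_mul, MulAut.mul_apply, hv, ih]
      have h1 := hpw k
      rw [← hk] at h1
      have h2 : y * (v : G) * y⁻¹ = v := by
        have := congrArg Subtype.val h1
        rwa [show ρ (QuotientGroup.mk' Q y) = ψ y from rfl, MulAut.conjNormal_apply] at this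
      exact Subtype.ext (hfree.odd hy1 hyo (hEQ v.2) (mul_inv_eq_iff_eq_mul.1 h2))
    · intro N hN hN2
      have h1 := Core.le_pCore' hN hN2
      exact le_bot_iff.1 (h1.trans (le_of_eq Core.pCore_quotient_pCore_eq_bot))
  have hns' := not_solvable_quotient hns Q hQs
  haveI : Nontrivial (G ⧸ Q) := by
    by_contra h
    rw [not_nontrivial_iff_subsingleton] at h
    exact hns' inferInstance
  obtain ⟨h1, h2, h3⟩ := hX.simple_of_oddCore_bot
    (oddCore_eq_bot (quotient_isCN hG Q hQs) hns') (trichotomy (ffHolds tiHolds) _)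
    (Nat.lt_succ_self _) tiHolds
  exact ⟨h1, h2, hX.cit, h3⟩

/-- The third alternative. -/
def ThirdCase (G : Type u) [Group G] : Prop :=
  ∃ (N : Subgroup G) (_ : N.Normal), N ≠ ⊥ ∧ IsPGroup 2 N ∧ IsMulCommutative N ∧ (∀ x ∈ N, x * x = 1) ∧
    ((∃ (F : Type) (_ : Field F) (_ : Fintype F), CharP F 2 ∧ 4 ≤ Fintype.card F ∧
        Nonempty (G ⧸ N ≃* Matrix.ProjectiveSpecialLinearGroup (Fin 2) F)) ∨ Cfsg.IsSuzuki (G ⧸ N))

theorem thirdCase_of_frame (hQ : Cfsg.pCore 2 G ≠ ⊥) (hfree : Rad2.FreeOn (Cfsg.pCore 2 G))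
    {X : Type*} [Group X] {F : Type} [Field F] [Fintype F] [DecidableEq F] {n : ℕ}
    (D : Rad2.Frame X F n) (hD : Rad2.Frame.IsGood.{u} D) (e : G ⧸ Cfsg.pCore 2 G ≃* X)
    (h : (∃ (K : Type) (_ : Field K) (_ : Fintype K), CharP K 2 ∧ 4 ≤ Fintype.card K ∧
        Nonempty (G ⧸ Cfsg.pCore 2 G ≃* Matrix.ProjectiveSpecialLinearGroup (Fin 2) K)) ∨
      Cfsg.IsSuzuki (G ⧸ Cfsg.pCore 2 G)) : ThirdCase G := by
  set Q := Cfsg.pCore 2 G
  have hker : (e.toMonoidHom.comp (QuotientGroup.mk' Q)).ker = Q := by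
    ext g
    rw [MonoidHom.mem_ker, MonoidHom.comp_apply, MulEquiv.coe_toMonoidHom, map_eq_one_iff e e.injective,
      QuotientGroup.mk'_apply, QuotientGroup.eq_one_iff]
  obtain ⟨h2, hab⟩ := Rad2.elemAbelian_of_frame D hD Q (Core.pCore_isPGroup 2 G)
    (e.toMonoidHom.comp (QuotientGroup.mk' Q))
    (e.surjective.comp (QuotientGroup.mk'_surjective Q)) hker hfree
  exact ⟨Q, inferInstance, hQ, Core.pCore_isPGroup 2 G,
    ⟨⟨fun a b => Subtype.ext (hab a a.2 b b.2)⟩⟩, h2, h⟩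

theorem sl_equiv_psl {F : Type} [Field F] [Fintype F] {n : ℕ} (hn : n ≠ 0)
    (hF : Fintype.card F = 2 ^ n) :
    Nonempty (Matrix.ProjectiveSpecialLinearGroup (Fin 2) F ≃* Matrix.SpecialLinearGroup (Fin 2) F) := by
  have hc : center (Matrix.SpecialLinearGroup (Fin 2) F) = ⊥ := by
    rw [← Subgroup.card_eq_one, Cfsg.Lib.Linear.card_center_SL, Fintype.card_fin, hF]
    exact Nat.coprime_two_left.2 (Nat.Even.sub_odd Nat.one_le_two_pow ((Nat.even_pow).2 ⟨even_two, hn⟩) odd_one)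
  exact ⟨(QuotientGroup.quotientMulEquivOfEq hc).trans QuotientGroup.quotientBot⟩

/-- Non-solvable CN groups with a normal two-subgroup. -/
theorem thirdCase (hG : Cfsg.IsCNGroup G) (hns : ¬ Group.IsSolvable G)
    (hQ : Cfsg.pCore 2 G ≠ ⊥) : ThirdCase G := by
  classical
  haveI : Fact (Nat.Prime 2) := ⟨Nat.prime_two⟩
  obtain ⟨hs, hna, hcit, hTI⟩ := quotient_simple hG hns hQ
  haveI := hs
  have hfree := freeOn_pCore hG hns
  set Q := Cfsg.pCore 2 G
  -- the even fields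
  have key : ∀ (F : Type) [Field F] [Fintype F] (n : ℕ), 2 ≤ n → Fintype.card F = 2 ^ n →
      (G ⧸ Q ≃* Matrix.ProjectiveSpecialLinearGroup (Fin 2) F) → ThirdCase G := by
    intro F _ _ n hn hF e
    haveI : NeZero n := ⟨by omega⟩
    haveI : CharP F 2 := Rad2.charTwo hF
    obtain ⟨f⟩ := sl_equiv_psl (F := F) (by omega) hF
    refine thirdCase_of_frame hQ hfree (Rad2.slFrame (by omega) hF) (Rad2.slFrame_isGood (by omega) hF)
      (e.trans f) (Or.inl ⟨F, inferInstance, inferInstance, inferInstance, ?_, ⟨e⟩⟩)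
    rw [hF]
    exact le_trans (by norm_num) (Nat.pow_le_pow_right two_pos hn)
  rcases of_sylowTI tiHolds hna hcit hTI with ⟨F, _, _, ⟨e⟩⟩ | hsuz
  · have h4 := four_le_of_iso hna e
    rcases Nat.mod_two_eq_zero_or_one (Fintype.card F) with h2 | h2
    · obtain ⟨p, hp, -, n, -, hn⟩ := Dickson.exists_char (F := F)
      have hp2 : p = 2 := ((Nat.prime_dvd_prime_iff_eq Nat.prime_two hp).1
        (Nat.prime_two.dvd_of_dvd_pow (hn ▸ Nat.dvd_of_mod_eq_zero h2))).symm
      subst hp2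
      refine key F n ?_ hn e
      by_contra hlt
      rw [hn] at h4
      have := Nat.pow_le_pow_right two_pos (show n ≤ 1 by omega)
      omega
    · obtain ⟨S⟩ : Nonempty (Sylow 2 (G ⧸ Q)) := inferInstance
      have hD := tiData hna hcit hTI S
      obtain ⟨E, t, hE⟩ := exists_tiShape hD
      have h5 := Consumers.odd_field_five (G := G ⧸ Q) hD hE h2 h4 e
      obtain ⟨e5⟩ := Cfsg.Agent.S0253.result h5
      haveI : Fintype (GaloisField 2 2) := Fintype.ofFinite _
      have hF4 : Fintype.card (GaloisField 2 2) = 2 ^ 2 := by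
        rw [← Nat.card_eq_fintype_card, GaloisField.card 2 2 two_ne_zero]
      obtain ⟨e4⟩ := Cfsg.Agent.S0252.result (hF4.trans (by norm_num))
      exact key (GaloisField 2 2) 2 le_rfl hF4 ((e.trans e5).trans e4.symm)
  · obtain ⟨F, _, _, m, hm, hF, ⟨e⟩⟩ := suzukiIso (G ⧸ Q) hna hcit hsuz
    obtain ⟨f, -⟩ := Cfsg.Lib.Linear.Suz.exists_lie_equiv (F := F) (m := m) ⟨hm, hF⟩
    exact thirdCase_of_frame hQ hfree (Rad2.szFrame (F := F) (m := m) ⟨hm, hF⟩)
      (Rad2.SzRep.szFrame_isGood _) (e.trans f.symm) (Or.inr hsuz)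

end Cfsg.Lib.CIT.CNStruct
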